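import Cfsg.Agent.Chev.Ortho.SplitOdd
import Cfsg.Agent.Chev.LiftKernel
import Cfsg.Agent.Chev.ExtraAll
import Cfsg.Agent.Chev.SimpleAll

/-!
The Chevalley group of type `B₂` and the projective commutator group of `x₀² + x₁y₁ + x₂y₂`.
-/

set_option autoImplicit false
set_option maxRecDepth 100000
set_option maxHeartbeats 1000000

namespace Cfsg.Agent.Chev.Ortho

open Cfsg.Lie Matrix Odd
open scoped MatrixGroups

universe u

namespace B2

/-- The commutator terms. -/
def commTab : List (List (List (ℕ × ℤ × ℕ × ℕ))) := [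
    [[], [], [], [], [], [(1, 1, 1, 1), (3, -1, 1, 2)], [(2, -1, 1, 1), (4, 1, 1, 2)], []],
    [[], [], [(0, 2, 1, 1)], [], [(2, 1, 1, 1), (0, 1, 2, 1)], [(3, -2, 1, 1)], [], [(5, -1, 1, 1), (3, 1, 2, 1)]],
    [[], [(0, -2, 1, 1)], [], [(1, 1, 1, 1), (0, -1, 2, 1)], [], [], [(4, -2, 1, 1)], [(6, 1, 1, 1), (4, -1, 2, 1)]],
    [[], [], [(1, -1, 1, 1), (0, -1, 1, 2)], [], [], [], [(5, 1, 1, 1), (7, 1, 1, 2)], []],
    [[], [(2, -1, 1, 1), (0, 1, 1, 2)], [], [], [], [(6, 1, 1, 1), (7, -1, 1, 2)], [], []],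
    [[(1, -1, 1, 1), (3, -1, 2, 1)], [(3, 2, 1, 1)], [], [], [(6, -1, 1, 1), (7, -1, 2, 1)], [], [(7, 2, 1, 1)], []],
    [[(2, 1, 1, 1), (4, 1, 2, 1)], [], [(4, 2, 1, 1)], [(5, -1, 1, 1), (7, 1, 2, 1)], [], [(7, -2, 1, 1)], [], []],
    [[], [(5, 1, 1, 1), (3, 1, 1, 2)], [(6, -1, 1, 1), (4, -1, 1, 2)], [], [], [], [], []]]

theorem comm_tab : ∀ r : Fin 8, ∀ s : Fin 8,
    chevB2.commTerms r s = (commTab.getD r []).getD s [] := by decide +kernel

theorem long_ok : Ok (.inr 1 : Fin 2 ⊕ Fin 2) (.inr 0) ∧ Ok (.inl 1 : Fin 2 ⊕ Fin 2) (.inr 0) ∧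
    Ok (.inl 0 : Fin 2 ⊕ Fin 2) (.inr 1) ∧ Ok (.inl 0 : Fin 2 ⊕ Fin 2) (.inl 1) := by
  unfold Ok; decide

variable {F : Type u} [Field F]

/-- The root element of a root. -/
def rootEl (r : ℕ) (t : F) : OB F 2 :=
  match r with
  | 0 => emb (el long_ok.1 t)
  | 1 => sh (.inr 0) (-t)
  | 2 => sh (.inr 1) (-t)
  | 3 => emb (el long_ok.2.1 t)
  | 4 => emb (el long_ok.2.2.1 t)
  | 5 => sh (.inl 1) t
  | 6 => sh (.inl 0) t
  | 7 => emb (el long_ok.2.2.2 t)
  | _ => 1

theorem rootEl_of_ge {r : ℕ} (hr : ¬ r < 8) (t : F) : rootEl r t = 1 := by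
  unfold rootEl; split <;> first | omega | rfl

theorem rootEl_mul (r : ℕ) (t t' : F) : rootEl r t * rootEl r t' = rootEl r (t + t') := by
  unfold rootEl; split <;>
    first
      | (rw [← map_mul, el_mul])
      | (rw [sh_mul, ← neg_add])
      | (rw [sh_mul])
      | exact one_mul 1

theorem rootEl_comm {r s : ℕ} (hr : r < 8) (hs : s < 8) (hsr : s ≠ r)
    (hsn : s ≠ chevB2.neg r) (t v : F) :
    rootEl s v * rootEl r t = rootEl r t * rootEl s v *
      ((chevB2.commWord F r s t v).map fun p => rootEl p.1 p.2).prod := by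
  have hneg : ∀ r : Fin 8, chevB2.neg r = 7 - (r : ℕ) := by decide +kernel
  have hn : chevB2.neg r = 7 - r := hneg ⟨r, hr⟩
  rw [hn] at hsn
  rw [ChevalleyDatum.commWord, comm_tab ⟨r, hr⟩ ⟨s, hs⟩]
  interval_cases r <;> interval_cases s <;> first
    | omega
    | (simp only [commTab, List.getD_cons_zero, List.getD_cons_succ, List.map_cons, List.map_nil,
          List.prod_cons, List.prod_nil, mul_one, pow_one, Int.cast_one, Int.cast_neg, Int.cast_ofNat,
          rootEl]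
       refine Odd.ext_act fun x => funext fun i => ?_
       fin_cases i <;>
         simp [Odd.act_mul, emb_apply, sh_apply, el_apply, hy, bar] <;> ring)

/-- The pairs generated by the root elements. -/
def pairs (F : Type u) [Field F] : Subgroup (OB F 2 × GL chevB2.Idx F) :=
  Subgroup.closure {g | ∃ (r : ℕ) (t : F), g = (rootEl r t, xG facts_chevB2 r t)}

/-- The generators of the pairs. -/
def pX (r : ℕ) (t : F) : pairs F :=
  ⟨(rootEl r t, xG facts_chevB2 r t), Subgroup.subset_closure ⟨r, t, rfl⟩⟩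

theorem xG_of_ge {r : ℕ} (hr : ¬ r < 8) (t : F) : xG facts_chevB2 r t = (1 : GL chevB2.Idx F) :=
  Units.ext (by rw [xG_val, x_of_ge hr]; rfl)

theorem closure_pX : Subgroup.closure
    {g : pairs F | ∃ (r : ℕ) (t : F), r < chevB2.nroots ∧ g = pX r t} = ⊤ := by
  apply Subgroup.map_injective (pairs F).subtype_injective
  rw [← MonoidHom.range_eq_map, Subgroup.range_subtype, MonoidHom.map_closure]
  refine le_antisymm ((Subgroup.closure_le _).2 ?_) ((Subgroup.closure_le _).2 ?_)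
  · rintro _ ⟨g, -, rfl⟩
    exact g.2
  · rintro _ ⟨r, t, rfl⟩
    by_cases hr : r < 8
    · exact Subgroup.subset_closure ⟨pX r t, ⟨r, t, hr, rfl⟩, rfl⟩
    · rw [rootEl_of_ge hr, xG_of_ge hr]
      exact Subgroup.one_mem _

/-- The lifting of Steinberg's relations to the pairs. -/
def liftB2 (F : Type u) [Field F] : Lift facts_chevB2 F (pairs F) where
  X := pX
  θ := (MonoidHom.snd _ _).comp (pairs F).subtype
  θ_X _ _ := rfl
  add r _ t₁ t₂ := Subtype.ext (Prod.ext (rootEl_mul r t₁ t₂) (xG_mul facts_chevB2 r t₁ t₂))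
  comm r s hr hs hsr hsn t v := by
    rw [show (pX s v)⁻¹ * (pX r t)⁻¹ * pX s v * pX r t =
      (pX r t * pX s v)⁻¹ * (pX s v * pX r t) by group, inv_mul_eq_iff_eq_mul]
    refine Subtype.ext (Prod.ext ?_ ?_)
    · have := rootEl_comm hr hs hsr hsn t v
      refine this.trans ?_
      show _ = ((MonoidHom.fst _ _).comp (pairs F).subtype)
        (pX r t * pX s v * ((chevB2.commWord F r s t v).map fun p => pX p.1 p.2).prod)
      simp only [map_mul, map_list_prod, List.map_map]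
      rfl
    · have := xG_comm facts_chevB2 hr hs hsr hsn t v
      refine this.trans ?_
      show _ = ((MonoidHom.snd _ _).comp (pairs F).subtype)
        (pX r t * pX s v * ((chevB2.commWord F r s t v).map fun p => pX p.1 p.2).prod)
      simp only [map_mul, map_list_prod, List.map_map, wordG]
      rfl
  gen := closure_pX

theorem fst_range (hF : ∃ a : F, a ≠ 0 ∧ a ≠ 1) :
    ((MonoidHom.fst _ _).comp (pairs F).subtype).range = commutator (OB F 2) := by
  rw [Odd.commutator_eq (by omega) hF, MonoidHom.range_comp, Subgroup.range_subtype, pairs,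
    MonoidHom.map_closure]
  refine le_antisymm ((Subgroup.closure_le _).2 ?_) ?_
  · rintro _ ⟨_, ⟨r, t, rfl⟩, rfl⟩
    show rootEl r t ∈ Odd.E F 2 0
    unfold rootEl
    split <;> first
      | exact emb_mem (el_mem _ _ (by omega) (by omega))
      | exact sh_mem (by omega) _
      | exact Subgroup.one_mem _
  set M := Subgroup.closure ((MonoidHom.fst (OB F 2) (GL chevB2.Idx F)) ''
    {g | ∃ (r : ℕ) (t : F), g = (rootEl r t, xG facts_chevB2 r t)}) with hM
  have hmem : ∀ r t, rootEl r t ∈ M := fun r t => Subgroup.subset_closure ⟨_, ⟨r, t, rfl⟩, rfl⟩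
  have el_swap : ∀ {a b : Fin 2 ⊕ Fin 2} (h : Ok a b) (h' : Ok b a) (t : F),
      el h t = el h' (-t) := fun h h' t => Ortho.ext_act fun x => funext fun i => by
    simp only [el_apply]
    split_ifs <;> ring
  refine sup_le ?_ ((Subgroup.closure_le _).2 ?_)
  · rw [Ortho.E, MonoidHom.map_closure, Subgroup.closure_le]
    rintro _ ⟨_, ⟨a, b, h, t, -, -, rfl⟩, rfl⟩
    have hcases : ∀ a b : Fin 2 ⊕ Fin 2, a ≠ b → b ≠ Sum.swap a →
        (a = .inr 1 ∧ b = .inr 0) ∨
        (a = .inl 1 ∧ b = .inr 0) ∨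
        (a = .inl 0 ∧ b = .inr 1) ∨
        (a = .inl 0 ∧ b = .inl 1) ∨
        (a = .inr 0 ∧ b = .inr 1) ∨
        (a = .inr 0 ∧ b = .inl 1) ∨
        (a = .inr 1 ∧ b = .inl 0) ∨
        (a = .inl 1 ∧ b = .inl 0) := by
      decide +kernel
    have := hcases a b h.1 h.2
    rcases this with ⟨rfl, rfl⟩ | ⟨rfl, rfl⟩ | ⟨rfl, rfl⟩ | ⟨rfl, rfl⟩ | ⟨rfl, rfl⟩ | ⟨rfl, rfl⟩ |
      ⟨rfl, rfl⟩ | ⟨rfl, rfl⟩
    exacts [hmem 0 t, hmem 3 t, hmem 4 t, hmem 7 t,
      (congrArg emb (el_swap h long_ok.1 t)) ▸ hmem 0 (-t),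
      (congrArg emb (el_swap h long_ok.2.1 t)) ▸ hmem 3 (-t),
      (congrArg emb (el_swap h long_ok.2.2.1 t)) ▸ hmem 4 (-t),
      (congrArg emb (el_swap h long_ok.2.2.2 t)) ▸ hmem 7 (-t)]
  · rintro _ ⟨a, t, -, rfl⟩
    rcases a with a | a <;> fin_cases a
    · exact hmem 6 t
    · exact hmem 5 t
    · have := hmem 1 (-t); simpa [rootEl] using this
    · have := hmem 2 (-t); simpa [rootEl] using this

theorem snd_range : ((MonoidHom.snd _ _).comp (pairs F).subtype).range = chevB2.group F := by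
  rw [MonoidHom.range_comp, Subgroup.range_subtype, pairs, MonoidHom.map_closure]
  refine le_antisymm ((Subgroup.closure_le _).2 ?_) ((Subgroup.closure_le _).2 ?_)
  · rintro _ ⟨_, ⟨r, t, rfl⟩, rfl⟩
    exact xG_mem_group facts_chevB2 r t
  · rintro g ⟨r, t, e⟩
    refine Subgroup.subset_closure ⟨_, ⟨r, t, rfl⟩, Units.ext ?_⟩
    show ((xG facts_chevB2 r t : GL chevB2.Idx F) : Matrix chevB2.Idx chevB2.Idx F) = _
    rw [xG_val, e, ChevalleyDatum.x, dif_pos r.2]

/-- The projection onto the commutator subgroup. -/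
def toOmega {F : Type u} [Field F] (hF : ∃ a : F, a ≠ 0 ∧ a ≠ 1) : pairs F →* ↥(commutator (OB F 2)) :=
  ((MonoidHom.fst _ _).comp (pairs F).subtype).codRestrict _ fun x => (fst_range hF).le ⟨x, rfl⟩

/-- The projection onto the Chevalley group. -/
def toChev (F : Type u) [Field F] : pairs F →* ↥(chevB2.group F) :=
  ((MonoidHom.snd _ _).comp (pairs F).subtype).codRestrict _ fun x => snd_range.le ⟨x, rfl⟩

theorem toOmega_surjective (hF : ∃ a : F, a ≠ 0 ∧ a ≠ 1) : Function.Surjective (toOmega hF) := fun y => by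
  obtain ⟨x, hx⟩ := (fst_range hF).ge y.2
  exact ⟨x, Subtype.ext hx⟩

theorem toChev_surjective : Function.Surjective (toChev F) := fun y => by
  obtain ⟨x, hx⟩ := snd_range.ge y.2
  exact ⟨x, Subtype.ext hx⟩

theorem toChev_ker_le : (toChev F).ker ≤ Subgroup.center (pairs F) := fun x hx =>
  (liftB2 F).ker_le_center (extra_chevB2) (MonoidHom.mem_ker.2 (congrArg Subtype.val hx))

theorem omega_not_comm (hF : ∃ a : F, a ≠ 0 ∧ a ≠ 1) :
    ∃ x y : ↥(commutator (OB F 2)), x * y ≠ y * x := by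
  have hmem : ∀ r t, rootEl r t ∈ commutator (OB F 2) := fun r t =>
    (fst_range hF).le ⟨pX r t, rfl⟩
  refine ⟨⟨_, hmem 4 (1 : F)⟩, ⟨_, hmem 5 (1 : F)⟩, fun e => ?_⟩
  have := congrFun (congrArg (fun g : OB F 2 => Odd.act g (Pi.single (.inr (.inr 1)) 1))
    (congrArg Subtype.val e)) (.inr (.inl 0))
  simp [rootEl, Odd.act_mul, emb_apply, sh_apply, el_apply, hy] at this

theorem iso (hF : ∃ a : F, a ≠ 0 ∧ a ≠ 1) :
    Nonempty (↥(chevB2.group F) ≃* Cfsg.POmega F (Cfsg.quadFormOdd 2 F)) := by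
  classical
  obtain ⟨hsimple, hnc⟩ := b2_simple (F := F) hF
  haveI := hsimple
  have hcen : Subgroup.center ↥(chevB2.group F) = ⊥ :=
    ((Subgroup.center ↥(chevB2.group F)).normal_of_characteristic.eq_bot_or_eq_top).resolve_right
      fun h => hnc ⟨⟨fun a b => Subgroup.mem_center_iff.1 (h.ge (Subgroup.mem_top b)) a⟩⟩
  haveI hN : ((toOmega hF).ker.map (toChev F)).Normal :=
    Subgroup.Normal.map inferInstance _ toChev_surjective
  have hker : (toOmega hF).ker ≤ (toChev F).ker := by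
    rcases hN.eq_bot_or_eq_top with h | h
    · exact (Subgroup.map_eq_bot_iff _).1 h
    exfalso
    obtain ⟨x, y, hxy⟩ := omega_not_comm hF
    have hz : ∀ w, toOmega hF w ∈ Subgroup.center _ := fun w => by
      obtain ⟨n, hn, e⟩ := h.ge (Subgroup.mem_top (toChev F w))
      have hc : n⁻¹ * w ∈ Subgroup.center _ := toChev_ker_le (MonoidHom.mem_ker.2 (by
        rw [map_mul, map_inv, e, inv_mul_cancel]))
      refine Subgroup.mem_center_iff.2 fun v => ?_
      obtain ⟨v, rfl⟩ := (toOmega_surjective hF) v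
      have hw : toOmega hF w = toOmega hF (n⁻¹ * w) := by
        rw [map_mul, map_inv, MonoidHom.mem_ker.1 hn, inv_one, one_mul]
      rw [hw, ← map_mul, ← map_mul, Subgroup.mem_center_iff.1 hc v]
    obtain ⟨w, rfl⟩ := (toOmega_surjective hF) x
    exact hxy (Subgroup.mem_center_iff.1 (hz w) y).symm
  set ψ : ↥(commutator (OB F 2)) →* ↥(chevB2.group F) :=
    (toOmega hF).liftOfSurjective (toOmega_surjective hF) ⟨toChev F, hker⟩ with hψ
  have hcomp : ∀ w, ψ (toOmega hF w) = toChev F w := fun w =>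
    MonoidHom.liftOfRightInverse_comp_apply _ _ _ _ _
  have hsurj : Function.Surjective ψ := fun g => by
    obtain ⟨w, rfl⟩ := toChev_surjective g
    exact ⟨_, hcomp w⟩
  have hk : ψ.ker = Subgroup.center _ := by
    refine le_antisymm (fun x hx => ?_) fun x hx => ?_
    · obtain ⟨w, rfl⟩ := (toOmega_surjective hF) x
      rw [MonoidHom.mem_ker, hcomp] at hx
      refine Subgroup.mem_center_iff.2 fun v => ?_
      obtain ⟨v, rfl⟩ := (toOmega_surjective hF) v
      rw [← map_mul, ← map_mul, Subgroup.mem_center_iff.1 (toChev_ker_le hx) v]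
    · have : ψ x ∈ Subgroup.center ↥(chevB2.group F) := Subgroup.mem_center_iff.2 fun g => by
        obtain ⟨y, rfl⟩ := hsurj g
        rw [← map_mul, ← map_mul, Subgroup.mem_center_iff.1 hx y]
      rwa [hcen, Subgroup.mem_bot] at this
  exact ⟨((QuotientGroup.quotientKerEquivOfSurjective ψ hsurj).symm).trans
    (QuotientGroup.quotientMulEquivOfEq hk)⟩

end B2

end Cfsg.Agent.Chev.Ortho
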