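import Cfsg.Agent.Chev.Ortho.D4Rels
import Cfsg.Agent.Chev.LiftKernel
import Cfsg.Agent.Chev.ExtraAll
import Cfsg.Agent.Chev.SimpleAll

/-!
The Chevalley group of type `D₄` and the projective commutator group of the hyperbolic form in eight
variables.
-/

set_option autoImplicit false
set_option maxRecDepth 100000
set_option maxHeartbeats 1000000

namespace Cfsg.Agent.Chev.Ortho

open Cfsg.Lie Matrix
open scoped MatrixGroups

universe u

namespace D4

variable {F : Type u} [Field F]

/-- The matrix of a root over the field. -/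
def nf (r : ℕ) : Matrix (Fin 4 ⊕ Fin 4) (Fin 4 ⊕ Fin 4) F :=
  (Int.castRingHom F).mapMatrix (nz r)

theorem nf_eq (r : ℕ) : (nf r : Matrix _ _ F) = rootN (pa r) (pb r) := by
  ext i j
  simp only [nf, nz, rootN, RingHom.mapMatrix_apply, map_apply, Matrix.of_apply, Matrix.sub_apply,
    Matrix.single_apply, map_sub]
  simp only [eq_comm (a := i), eq_comm (a := j), apply_ite (Int.castRingHom F), map_one, map_zero]

/-- The root element of a root. -/
def rootEl (r : ℕ) (t : F) : OG F 4 := if hr : r < 24 then el (pair_ok hr) t else 1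

theorem rootEl_val {r : ℕ} (hr : r < 24) (t : F) :
    (((rootEl r t).1 : GL (Fin 4 ⊕ Fin 4) F) : Matrix _ _ F) = 1 + t • nf r := by
  rw [rootEl, dif_pos hr, nf_eq]
  rfl

theorem rootEl_mul (r : ℕ) (t t' : F) : rootEl r t * rootEl r t' = rootEl r (t + t') := by
  unfold rootEl
  split
  · exact el_mul _ t t'
  · exact one_mul 1

theorem val_inj {g h : OG F 4}
    (e : ((g.1 : GL (Fin 4 ⊕ Fin 4) F) : Matrix (Fin 4 ⊕ Fin 4) (Fin 4 ⊕ Fin 4) F) =
      ((h.1 : GL (Fin 4 ⊕ Fin 4) F) : Matrix (Fin 4 ⊕ Fin 4) (Fin 4 ⊕ Fin 4) F)) : g = h := Subtype.ext (Units.ext e)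

theorem rootEl_comm {r s : ℕ} (hr : r < 24) (hs : s < 24) (hsr : s ≠ r)
    (hsn : s ≠ chevD4.neg r) (t v : F) :
    rootEl s v * rootEl r t = rootEl r t * rootEl s v *
      ((chevD4.commWord F r s t v).map fun p => rootEl p.1 p.2).prod := by
  have h := rels ⟨r, hr⟩ ⟨s, hs⟩ hsr hsn
  rw [ChevalleyDatum.commWord]
  generalize chevD4.commTerms r s = l at h ⊢
  set f := (Int.castRingHom F).mapMatrix (m := Fin 4 ⊕ Fin 4) with hf
  match l, h with
  | [], h =>
    simp only [relOk, decide_eq_true_eq] at h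
    have e : (nf s * nf r : Matrix _ _ F) = nf r * nf s := by
      rw [nf, nf, ← map_mul, ← map_mul, Matrix.ext h]
    simp only [List.map_nil, List.prod_nil, mul_one]
    refine val_inj ?_
    simp only [Subgroup.coe_mul, Units.val_mul, rootEl_val hr, rootEl_val hs, mul_add, add_mul,
      one_mul, mul_one, smul_mul_smul_comm, e, mul_comm v t]
    abel
  | [(k, C, i, j)], h =>
    simp only [relOk, Bool.and_eq_true, decide_eq_true_eq] at h
    obtain ⟨⟨hk, rfl, rfl⟩, h⟩ := h
    have e : (nf s * nf r + (C : F) • nf k : Matrix _ _ F) = nf r * nf s := by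
      ext p q
      have := congrArg (Int.cast : ℤ → F) (h p q).1
      simpa [nf, mul_apply] using this
    have z1 : (nf r * nf k : Matrix _ _ F) = 0 := by
      rw [nf, nf, ← map_mul, show nz r * nz k = 0 from Matrix.ext fun p q => (h p q).2.1, map_zero]
    have z2 : (nf s * nf k : Matrix _ _ F) = 0 := by
      rw [nf, nf, ← map_mul, show nz s * nz k = 0 from Matrix.ext fun p q => (h p q).2.2, map_zero]
    have z3 : (nf r * nf s * nf k : Matrix _ _ F) = 0 := by rw [mul_assoc, z2, mul_zero]
    simp only [List.map_cons, List.map_nil, List.prod_cons, List.prod_nil, mul_one, pow_one]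
    refine val_inj ?_
    simp only [Subgroup.coe_mul, Units.val_mul, rootEl_val hr, rootEl_val hs, rootEl_val hk,
      mul_add, add_mul, one_mul, mul_one, smul_mul_smul_comm, z1, z2, z3, smul_zero, add_zero]
    rw [← e]
    simp only [smul_add, smul_smul]
    match_scalars <;> ring

/-- The pairs generated by the root elements. -/
def pairs (F : Type u) [Field F] : Subgroup (OG F 4 × GL chevD4.Idx F) :=
  Subgroup.closure {g | ∃ (r : ℕ) (t : F), g = (rootEl r t, xG facts_chevD4 r t)}

/-- The generators of the pairs. -/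
def pX (r : ℕ) (t : F) : pairs F :=
  ⟨(rootEl r t, xG facts_chevD4 r t), Subgroup.subset_closure ⟨r, t, rfl⟩⟩

theorem rootEl_of_ge {r : ℕ} (hr : ¬ r < 24) (t : F) : rootEl r t = 1 := dif_neg hr

theorem xG_of_ge {r : ℕ} (hr : ¬ r < 24) (t : F) : xG facts_chevD4 r t = (1 : GL chevD4.Idx F) :=
  Units.ext (by rw [xG_val, x_of_ge hr]; rfl)

theorem closure_pX : Subgroup.closure
    {g : pairs F | ∃ (r : ℕ) (t : F), r < chevD4.nroots ∧ g = pX r t} = ⊤ := by
  apply Subgroup.map_injective (pairs F).subtype_injective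
  rw [← MonoidHom.range_eq_map, Subgroup.range_subtype, MonoidHom.map_closure]
  refine le_antisymm ((Subgroup.closure_le _).2 ?_) ((Subgroup.closure_le _).2 ?_)
  · rintro _ ⟨g, -, rfl⟩
    exact g.2
  · rintro _ ⟨r, t, rfl⟩
    by_cases hr : r < 24
    · exact Subgroup.subset_closure ⟨pX r t, ⟨r, t, hr, rfl⟩, rfl⟩
    · rw [rootEl_of_ge hr, xG_of_ge hr]
      exact Subgroup.one_mem _

/-- The lifting of Steinberg's relations to the pairs. -/
def liftD4 (F : Type u) [Field F] : Lift facts_chevD4 F (pairs F) where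
  X := pX
  θ := (MonoidHom.snd _ _).comp (pairs F).subtype
  θ_X _ _ := rfl
  add r _ t₁ t₂ := Subtype.ext (Prod.ext (rootEl_mul r t₁ t₂) (xG_mul facts_chevD4 r t₁ t₂))
  comm r s hr hs hsr hsn t v := by
    rw [show (pX s v)⁻¹ * (pX r t)⁻¹ * pX s v * pX r t =
      (pX r t * pX s v)⁻¹ * (pX s v * pX r t) by group, inv_mul_eq_iff_eq_mul]
    refine Subtype.ext (Prod.ext ?_ ?_)
    · have := rootEl_comm hr hs hsr hsn t v
      refine this.trans ?_
      show _ = ((MonoidHom.fst _ _).comp (pairs F).subtype)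
        (pX r t * pX s v * ((chevD4.commWord F r s t v).map fun p => pX p.1 p.2).prod)
      simp only [map_mul, map_list_prod, List.map_map]
      rfl
    · have := xG_comm facts_chevD4 hr hs hsr hsn t v
      refine this.trans ?_
      show _ = ((MonoidHom.snd _ _).comp (pairs F).subtype)
        (pX r t * pX s v * ((chevD4.commWord F r s t v).map fun p => pX p.1 p.2).prod)
      simp only [map_mul, map_list_prod, List.map_map, wordG]
      rfl
  gen := closure_pX

theorem fst_range : ((MonoidHom.fst _ _).comp (pairs F).subtype).range = commutator (OG F 4) := by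
  rw [commutator_eq (by omega), MonoidHom.range_comp, Subgroup.range_subtype, pairs,
    MonoidHom.map_closure]
  refine le_antisymm ((Subgroup.closure_le _).2 ?_) ((Subgroup.closure_le _).2 ?_)
  · rintro _ ⟨_, ⟨r, t, rfl⟩, rfl⟩
    show rootEl r t ∈ E F 4 0
    by_cases hr : r < 24
    · rw [rootEl, dif_pos hr]; exact el_mem _ _ (by omega) (by omega)
    · rw [rootEl_of_ge hr]; exact Subgroup.one_mem _
  · rintro _ ⟨a, b, h, t, -, -, rfl⟩
    obtain ⟨r, ⟨ha, hb⟩ | ⟨ha, hb⟩⟩ := pair_all a b h.1 h.2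
    · refine Subgroup.subset_closure ⟨_, ⟨r, t, rfl⟩, ?_⟩
      show rootEl r t = el h t
      subst ha hb
      rw [rootEl, dif_pos r.2]
    · refine Subgroup.subset_closure ⟨_, ⟨r, -t, rfl⟩, ?_⟩
      show rootEl r (-t) = el h t
      subst ha hb
      rw [rootEl, dif_pos r.2]
      refine ext_act fun x => funext fun i => ?_
      simp only [el_apply]
      split_ifs <;> ring

theorem snd_range : ((MonoidHom.snd _ _).comp (pairs F).subtype).range = chevD4.group F := by
  rw [MonoidHom.range_comp, Subgroup.range_subtype, pairs, MonoidHom.map_closure]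
  refine le_antisymm ((Subgroup.closure_le _).2 ?_) ((Subgroup.closure_le _).2 ?_)
  · rintro _ ⟨_, ⟨r, t, rfl⟩, rfl⟩
    exact xG_mem_group facts_chevD4 r t
  · rintro g ⟨r, t, e⟩
    refine Subgroup.subset_closure ⟨_, ⟨r, t, rfl⟩, Units.ext ?_⟩
    show ((xG facts_chevD4 r t : GL chevD4.Idx F) : Matrix chevD4.Idx chevD4.Idx F) = _
    rw [xG_val, e, ChevalleyDatum.x, dif_pos r.2]

/-- The projection onto the commutator subgroup. -/
def toOmega (F : Type u) [Field F] : pairs F →* ↥(commutator (OG F 4)) :=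
  ((MonoidHom.fst _ _).comp (pairs F).subtype).codRestrict _ fun x => fst_range.le ⟨x, rfl⟩

/-- The projection onto the Chevalley group. -/
def toChev (F : Type u) [Field F] : pairs F →* ↥(chevD4.group F) :=
  ((MonoidHom.snd _ _).comp (pairs F).subtype).codRestrict _ fun x => snd_range.le ⟨x, rfl⟩

theorem toOmega_surjective : Function.Surjective (toOmega F) := fun y => by
  obtain ⟨x, hx⟩ := fst_range.ge y.2
  exact ⟨x, Subtype.ext hx⟩

theorem toChev_surjective : Function.Surjective (toChev F) := fun y => by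
  obtain ⟨x, hx⟩ := snd_range.ge y.2
  exact ⟨x, Subtype.ext hx⟩

theorem toChev_ker_le : (toChev F).ker ≤ Subgroup.center (pairs F) := fun x hx =>
  (liftD4 F).ker_le_center (extra_chevD4) (MonoidHom.mem_ker.2 (congrArg Subtype.val hx))

theorem omega_not_comm : ∃ x y : ↥(commutator (OG F 4)), x * y ≠ y * x := by
  have h1 : Ok (.inl 0 : Fin 4 ⊕ Fin 4) (.inl 2) := ⟨by decide, by decide⟩
  have h2 : Ok (.inr 2 : Fin 4 ⊕ Fin 4) (.inl 1) := ⟨by decide, by decide⟩
  refine ⟨⟨_, el_mem_commutator (by omega) h1 (1 : F)⟩, ⟨_, el_mem_commutator (by omega) h2 (1 : F)⟩,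
    fun e => ?_⟩
  have := congrFun (congrArg (fun g : OG F 4 => act g (Pi.single (.inr 1) 1))
    (congrArg Subtype.val e)) (.inl 0)
  simp [act_mul, el_apply] at this

theorem iso : Nonempty (↥(chevD4.group F) ≃* Cfsg.POmega F (Cfsg.quadFormPlus 4 F)) := by
  classical
  obtain ⟨hsimple, hnc⟩ := d4_simple (F := F)
  haveI := hsimple
  have hcen : Subgroup.center ↥(chevD4.group F) = ⊥ :=
    ((Subgroup.center ↥(chevD4.group F)).normal_of_characteristic.eq_bot_or_eq_top).resolve_right
      fun h => hnc ⟨⟨fun a b => Subgroup.mem_center_iff.1 (h.ge (Subgroup.mem_top b)) a⟩⟩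
  haveI hN : ((toOmega F).ker.map (toChev F)).Normal :=
    Subgroup.Normal.map inferInstance _ toChev_surjective
  have hker : (toOmega F).ker ≤ (toChev F).ker := by
    rcases hN.eq_bot_or_eq_top with h | h
    · exact (Subgroup.map_eq_bot_iff _).1 h
    exfalso
    obtain ⟨x, y, hxy⟩ := omega_not_comm (F := F)
    have hz : ∀ w, toOmega F w ∈ Subgroup.center _ := fun w => by
      obtain ⟨n, hn, e⟩ := h.ge (Subgroup.mem_top (toChev F w))
      have hc : n⁻¹ * w ∈ Subgroup.center _ := toChev_ker_le (MonoidHom.mem_ker.2 (by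
        rw [map_mul, map_inv, e, inv_mul_cancel]))
      refine Subgroup.mem_center_iff.2 fun v => ?_
      obtain ⟨v, rfl⟩ := toOmega_surjective v
      have hw : toOmega F w = toOmega F (n⁻¹ * w) := by
        rw [map_mul, map_inv, MonoidHom.mem_ker.1 hn, inv_one, one_mul]
      rw [hw, ← map_mul, ← map_mul, Subgroup.mem_center_iff.1 hc v]
    obtain ⟨w, rfl⟩ := toOmega_surjective x
    exact hxy (Subgroup.mem_center_iff.1 (hz w) y).symm
  set ψ : ↥(commutator (OG F 4)) →* ↥(chevD4.group F) :=
    (toOmega F).liftOfSurjective toOmega_surjective ⟨toChev F, hker⟩ with hψ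
  have hcomp : ∀ w, ψ (toOmega F w) = toChev F w := fun w =>
    MonoidHom.liftOfRightInverse_comp_apply _ _ _ _ _
  have hsurj : Function.Surjective ψ := fun g => by
    obtain ⟨w, rfl⟩ := toChev_surjective g
    exact ⟨_, hcomp w⟩
  have hk : ψ.ker = Subgroup.center _ := by
    refine le_antisymm (fun x hx => ?_) fun x hx => ?_
    · obtain ⟨w, rfl⟩ := toOmega_surjective x
      rw [MonoidHom.mem_ker, hcomp] at hx
      refine Subgroup.mem_center_iff.2 fun v => ?_
      obtain ⟨v, rfl⟩ := toOmega_surjective v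
      rw [← map_mul, ← map_mul, Subgroup.mem_center_iff.1 (toChev_ker_le hx) v]
    · have : ψ x ∈ Subgroup.center ↥(chevD4.group F) := Subgroup.mem_center_iff.2 fun g => by
        obtain ⟨y, rfl⟩ := hsurj g
        rw [← map_mul, ← map_mul, Subgroup.mem_center_iff.1 hx y]
      rwa [hcen, Subgroup.mem_bot] at this
  exact ⟨((QuotientGroup.quotientKerEquivOfSurjective ψ hsurj).symm).trans
    (QuotientGroup.quotientMulEquivOfEq hk)⟩

end D4

end Cfsg.Agent.Chev.Ortho
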