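import Cfsg.Agent.Chev.Ortho.SplitOmega
import Cfsg.Agent.Chev.SimpleAll

/-!
Integral matrices of the roots of `D₄` in eight dimensions and their commutator identities.
-/

set_option autoImplicit false
set_option maxRecDepth 100000
set_option maxHeartbeats 1000000

namespace Cfsg.Agent.Chev.Ortho

open Cfsg.Lie Matrix

namespace D4

/-- An index from a number. -/
def ix (n : ℕ) : Fin 4 ⊕ Fin 4 :=
  if h : n < 4 then .inl ⟨n, h⟩ else .inr ⟨(n - 4) % 4, Nat.mod_lt _ (by omega)⟩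

/-- The pairs of indices of the roots, with signs absorbed in their order. -/
def tab : List (ℕ × ℕ) :=
  [(5, 4), (6, 4), (3, 4), (7, 4), (4, 2), (1, 4), (5, 6), (5, 3), (5, 7), (2, 5), (3, 6), (7, 6),
    (2, 3), (2, 7), (1, 6), (3, 1), (7, 1), (2, 1), (0, 5), (6, 0), (0, 3), (0, 7), (0, 2), (0, 1)]

/-- The first index of a root. -/
def pa (r : ℕ) : Fin 4 ⊕ Fin 4 := ix (tab.getD r (0, 1)).1

/-- The second index of a root. -/
def pb (r : ℕ) : Fin 4 ⊕ Fin 4 := ix (tab.getD r (0, 1)).2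

theorem pair_ok_fin : ∀ r : Fin 24, pa r ≠ pb r ∧ pb r ≠ bar (pa r) := by decide +kernel

theorem pair_ok {r : ℕ} (hr : r < 24) : Ok (pa r) (pb r) := pair_ok_fin ⟨r, hr⟩

theorem pair_all : ∀ a b : Fin 4 ⊕ Fin 4, a ≠ b → b ≠ bar a →
    ∃ r : Fin 24, (pa r = a ∧ pb r = b) ∨ (pa r = b ∧ pb r = a) := by decide +kernel

/-- The integral matrix of a root. -/
def nz (r : ℕ) : Matrix (Fin 4 ⊕ Fin 4) (Fin 4 ⊕ Fin 4) ℤ :=
  Matrix.of fun i j => (if i = pa r ∧ j = bar (pb r) then 1 else 0) -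
    if i = pb r ∧ j = bar (pa r) then 1 else 0

/-- The integral identities behind one commutator relation. -/
def relOk (r s : ℕ) : List (ℕ × ℤ × ℕ × ℕ) → Bool
  | [] => decide (∀ i j, (nz s * nz r) i j = (nz r * nz s) i j)
  | [(k, C, i, j)] => decide (k < 24 ∧ i = 1 ∧ j = 1) &&
      decide (∀ p q, (nz s * nz r) p q + C * nz k p q = (nz r * nz s) p q ∧
        (nz r * nz k) p q = 0 ∧ (nz s * nz k) p q = 0)
  | _ => false

theorem rels : ∀ r : Fin 24, ∀ s : Fin 24, (s : ℕ) ≠ r → (s : ℕ) ≠ chevD4.neg r →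
    relOk r s (chevD4.commTerms r s) = true := by decide +kernel

end D4

end Cfsg.Agent.Chev.Ortho
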