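import Cfsg.Agent.Chev.Ortho.SplitOmega

/-!
The commutator subgroup of the isometry group of `x₀² + Σ xᵢ yᵢ` over a field with more than two elements: it is
generated by the long and short root elements.
-/

set_option autoImplicit false

namespace Cfsg.Agent.Chev.Ortho

open Matrix
open scoped commutatorElement

variable {F : Type*} [Field F] {m : ℕ}

namespace Odd

local notation "W" => Unit ⊕ (Fin m ⊕ Fin m) → F

/-- The hyperbolic part of a vector. -/
def hy (x : W) : Fin m ⊕ Fin m → F := fun i => x (.inr i)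

theorem hy_single (i : Fin m ⊕ Fin m) (s : F) : hy (Pi.single (.inr i) s : W) = Pi.single i s := by
  funext j; simp [hy, Pi.single_apply]

theorem Q_eq (x : W) : quadFormOdd m F x = x (.inl ()) ^ 2 + quadFormPlus m F (hy x) := rfl

theorem hy_add_single (x : W) (i : Fin m ⊕ Fin m) (s : F) :
    hy (x + Pi.single (.inr i) s) = hy x + Pi.single i s := by
  funext j; simp [hy, Pi.single_apply]

theorem Q_add_inr (x : W) (i : Fin m ⊕ Fin m) (s : F) :
    quadFormOdd m F (x + Pi.single (.inr i) s) = quadFormOdd m F x + s * x (.inr (bar i)) := by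
  rw [Q_eq, Q_eq, hy_add_single, Q_add_single, Pi.add_apply, Pi.single_eq_of_ne (by simp), add_zero,
    ← add_assoc]
  rfl

theorem Q_add_inl (x : W) (s : F) :
    quadFormOdd m F (x + Pi.single (.inl ()) s) =
      quadFormOdd m F x + (2 * s * x (.inl ()) + s ^ 2) := by
  have e : hy (x + Pi.single (.inl ()) s) = hy x := by funext j; simp [hy]
  rw [Q_eq, Q_eq, e, Pi.add_apply, Pi.single_eq_same]
  ring

theorem Q_single_inr (i : Fin m ⊕ Fin m) (s : F) :
    quadFormOdd m F (Pi.single (.inr i) s : W) = 0 := by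
  rw [Q_eq, hy_single, Q_single, Pi.single_eq_of_ne (by simp)]
  ring

/-- The isometry group. -/
abbrev OB (F : Type*) [Field F] (m : ℕ) : Subgroup (GL (Unit ⊕ (Fin m ⊕ Fin m)) F) :=
  Cfsg.isometryGroup F (quadFormOdd m F)

/-- The action on vectors. -/
def act (g : OB F m) (x : W) : W :=
  (g.1 : Matrix (Unit ⊕ (Fin m ⊕ Fin m)) (Unit ⊕ (Fin m ⊕ Fin m)) F) *ᵥ x

theorem act_mul (g h : OB F m) (x : W) : act (g * h) x = act g (act h x) :=
  (mulVec_mulVec _ _ _).symm

theorem act_one (x : W) : act (1 : OB F m) x = x := one_mulVec x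

theorem act_add (g : OB F m) (x y : W) : act g (x + y) = act g x + act g y := mulVec_add _ _ _

theorem mem_OB {g : GL (Unit ⊕ (Fin m ⊕ Fin m)) F} :
    g ∈ OB F m ↔ ∀ x : W, quadFormOdd m F ((g : Matrix _ _ F) *ᵥ x) = quadFormOdd m F x :=
  ⟨fun h x => h x 0, fun h u _ => h u⟩

theorem Q_act (g : OB F m) (x : W) : quadFormOdd m F (act g x) = quadFormOdd m F x :=
  mem_OB.1 g.2 x

theorem ext_act {g h : OB F m} (e : ∀ x, act g x = act h x) : g = h :=
  Subtype.ext (Units.ext (Matrix.toLin'.injective (LinearMap.ext fun x => e x)))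

theorem ext_single {g h : OB F m} (e : ∀ i, act g (Pi.single i 1) = act h (Pi.single i 1)) : g = h :=
  Subtype.ext (Units.ext (Matrix.ext fun i j => by simpa [act] using congrFun (e j) i))

/-! ### The embedding of the even group -/

/-- The matrix acting trivially on the extra coordinate. -/
def embMat (A : Matrix (Fin m ⊕ Fin m) (Fin m ⊕ Fin m) F) :
    Matrix (Unit ⊕ (Fin m ⊕ Fin m)) (Unit ⊕ (Fin m ⊕ Fin m)) F := fromBlocks 1 0 0 A

theorem embMat_mul (A B : Matrix (Fin m ⊕ Fin m) (Fin m ⊕ Fin m) F) :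
    embMat (A * B) = embMat A * embMat B := by simp [embMat, fromBlocks_multiply]

theorem embMat_one : embMat (1 : Matrix (Fin m ⊕ Fin m) (Fin m ⊕ Fin m) F) = 1 := fromBlocks_one

theorem embMat_mulVec (A : Matrix (Fin m ⊕ Fin m) (Fin m ⊕ Fin m) F) (x : W) :
    (embMat A *ᵥ x : W) = Sum.elim (fun u => x (.inl u)) (A *ᵥ hy x) := by
  rw [embMat, fromBlocks_mulVec]
  congr 1
  · simp [Function.comp_def]
  · simp [Function.comp_def]; rfl

/-- The embedding of the even group. -/
def emb : OG F m →* OB F m where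
  toFun g := ⟨⟨embMat g.1.1, embMat ((g⁻¹).1.1),
      by rw [← embMat_mul, ← Units.val_mul, ← Subgroup.coe_mul, mul_inv_cancel]; exact embMat_one,
      by rw [← embMat_mul, ← Units.val_mul, ← Subgroup.coe_mul, inv_mul_cancel]; exact embMat_one⟩,
    mem_OB.2 fun x => by
      show quadFormOdd m F (embMat _ *ᵥ x) = _
      rw [embMat_mulVec, Q_eq, Q_eq]
      congr 1
      exact Ortho.Q_act g (hy x)⟩
  map_one' := Subtype.ext (Units.ext embMat_one)
  map_mul' g h := Subtype.ext (Units.ext (embMat_mul g.1.1 h.1.1))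

theorem emb_apply (g : OG F m) (x : W) :
    act (emb g) x = Sum.elim (fun u => x (.inl u)) (Ortho.act g (hy x)) := embMat_mulVec _ x

theorem hy_emb (g : OG F m) (x : W) : hy (act (emb g) x) = Ortho.act g (hy x) := by
  rw [emb_apply]; rfl

theorem emb_inl (g : OG F m) (x : W) : act (emb g) x (.inl ()) = x (.inl ()) := by
  rw [emb_apply]; rfl

theorem vec_ext {x y : W} (h0 : x (.inl ()) = y (.inl ())) (h : hy x = hy y) : x = y := by
  funext i
  rcases i with ⟨⟨⟩⟩ | i
  · exact h0
  · exact congrFun h i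

theorem emb_fix {g : OG F m} {i : Fin m ⊕ Fin m}
    (h : Ortho.act g (Pi.single i 1) = Pi.single i 1) :
    act (emb g) (Pi.single (.inr i) 1) = Pi.single (.inr i) 1 :=
  vec_ext (emb_inl g _) (by rw [hy_emb, hy_single, h])

/-! ### Short root elements -/

/-- The matrix of a short root element. -/
def shMat (a : Fin m ⊕ Fin m) (t : F) :
    Matrix (Unit ⊕ (Fin m ⊕ Fin m)) (Unit ⊕ (Fin m ⊕ Fin m)) F :=
  1 + (single (.inl ()) (.inr (bar a)) t - single (.inr a) (.inl ()) (2 * t) -
    single (.inr a) (.inr (bar a)) (t ^ 2))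

theorem shMat_mulVec (a : Fin m ⊕ Fin m) (t : F) (x : W) :
    (shMat a t *ᵥ x : W) = x + (Pi.single (.inl ()) (t * x (.inr (bar a))) : W) +
      (Pi.single (.inr a) (-(2 * t * x (.inl ()) + t ^ 2 * x (.inr (bar a)))) : W) := by
  funext i
  simp only [shMat, add_mulVec, one_mulVec, sub_mulVec, Pi.add_apply, Pi.sub_apply,
    single_mulVec, Function.update_apply, Pi.zero_apply, Pi.single_apply]
  split_ifs <;> ring

theorem shMat_mul (a : Fin m ⊕ Fin m) (t t' : F) : shMat a t * shMat a t' = shMat a (t + t') := by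
  refine Matrix.toLin'.injective (LinearMap.ext fun x => ?_)
  rw [Matrix.toLin'_apply, Matrix.toLin'_apply, ← mulVec_mulVec, shMat_mulVec, shMat_mulVec,
    shMat_mulVec]
  funext i
  simp only [Pi.add_apply, Pi.single_apply, Sum.inr.injEq, bar_ne, reduceCtorEq, if_false, if_true]
  split_ifs <;> ring

theorem shMat_zero (a : Fin m ⊕ Fin m) : shMat a (0 : F) = 1 := by simp [shMat]

/-- A short root element. -/
def sh (a : Fin m ⊕ Fin m) (t : F) : OB F m :=
  ⟨⟨shMat a t, shMat a (-t), by rw [shMat_mul, add_neg_cancel, shMat_zero],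
      by rw [shMat_mul, neg_add_cancel, shMat_zero]⟩,
    mem_OB.2 fun x => by
      show quadFormOdd m F (shMat a t *ᵥ x) = _
      rw [shMat_mulVec, Q_add_inr, Q_add_inl, Pi.add_apply, Pi.single_eq_of_ne (by simp)]
      ring⟩

theorem sh_apply (a : Fin m ⊕ Fin m) (t : F) (x : W) (i : Unit ⊕ (Fin m ⊕ Fin m)) :
    act (sh a t) x i = x i + (if i = .inl () then t * x (.inr (bar a)) else 0) -
      if i = .inr a then 2 * t * x (.inl ()) + t ^ 2 * x (.inr (bar a)) else 0 := by
  rw [act, show ((sh a t).1 : Matrix _ _ F) = shMat a t from rfl, shMat_mulVec]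
  simp only [Pi.add_apply, Pi.single_apply]
  split_ifs <;> ring

theorem sh_mul (a : Fin m ⊕ Fin m) (t t' : F) : sh a t * sh a t' = sh a (t + t') :=
  Subtype.ext (Units.ext (shMat_mul a t t'))

theorem sh_inl (a : Fin m ⊕ Fin m) (t : F) (x : W) :
    act (sh a t) x (.inl ()) = x (.inl ()) + t * x (.inr (bar a)) := by
  rw [sh_apply, if_pos rfl, if_neg (by simp), sub_zero]

theorem sh_inr (a : Fin m ⊕ Fin m) (t : F) (x : W) {i : Fin m ⊕ Fin m} (h : i ≠ a) :
    act (sh a t) x (.inr i) = x (.inr i) := by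
  rw [sh_apply, if_neg (by simp), if_neg (by simpa using h), add_zero, sub_zero]

theorem sh_fix (a : Fin m ⊕ Fin m) (t : F) {i : Fin m ⊕ Fin m} (h : i ≠ bar a) :
    act (sh a t) (Pi.single (.inr i) 1) = Pi.single (.inr i) 1 := by
  funext j
  simp [sh_apply, Pi.single_apply, h.symm]

/-- The subgroup generated by the root elements with levels at least `k`. -/
def E (F : Type*) [Field F] (m k : ℕ) : Subgroup (OB F m) :=
  (Ortho.E F m k).map emb ⊔ Subgroup.closure {g | ∃ (a : Fin m ⊕ Fin m) (t : F), k ≤ lev a ∧ g = sh a t}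

theorem emb_mem {k : ℕ} {g : OG F m} (hg : g ∈ Ortho.E F m k) : emb g ∈ E F m k :=
  Subgroup.mem_sup_left ⟨g, hg, rfl⟩

theorem sh_mem {k : ℕ} {a : Fin m ⊕ Fin m} (h : k ≤ lev a) (t : F) : sh a t ∈ E F m k :=
  Subgroup.mem_sup_right (Subgroup.subset_closure ⟨a, t, h, rfl⟩)

theorem E_le (k : ℕ) : E F m k ≤ E F m 0 :=
  sup_le_sup (Subgroup.map_mono (Ortho.E_le k))
    (Subgroup.closure_mono fun _ ⟨a, t, _, e⟩ => ⟨a, t, by omega, e⟩)

/-- The elements fixing the hyperbolic basis vectors of level less than `k`. -/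
def fixK (F : Type*) [Field F] (m k : ℕ) : Subgroup (OB F m) where
  carrier := {g | ∀ i : Fin m ⊕ Fin m, lev i < k →
    act g (Pi.single (.inr i) 1) = Pi.single (.inr i) 1}
  one_mem' i _ := act_one _
  mul_mem' {g h} hg hh i hi := by rw [act_mul, hh i hi, hg i hi]
  inv_mem' {g} hg i hi := by
    conv_lhs => rw [← hg i hi, ← act_mul, inv_mul_cancel, act_one]

theorem E_le_fixK (k : ℕ) : E F m k ≤ fixK F m k := by
  refine sup_le ?_ ((Subgroup.closure_le _).2 ?_)
  · rintro _ ⟨g, hg, rfl⟩ i hi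
    exact emb_fix (Ortho.E_le_fixK k hg i hi)
  · rintro _ ⟨a, t, ha, rfl⟩ i hi
    exact sh_fix a t fun e => by subst e; rw [lev_bar] at hi; omega

/-- The coordinate opposite to a fixed basis vector is unchanged. -/
theorem coord_of_fix {g : OB F m} {i : Fin m ⊕ Fin m}
    (h : act g (Pi.single (.inr i) 1) = Pi.single (.inr i) 1) (x : W) :
    act g x (.inr (bar i)) = x (.inr (bar i)) := by
  have := Q_act g (x + Pi.single (.inr i) 1)
  rwa [act_add, h, Q_add_inr, Q_add_inr, Q_act, one_mul, one_mul, add_right_inj] at this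

theorem supp_act {g : OB F m} {k : ℕ} (hg : g ∈ fixK F m k) {x : W}
    (hx : ∀ i, lev i < k → x (.inr i) = 0) : ∀ i, lev i < k → act g x (.inr i) = 0 := fun i hi => by
  have := coord_of_fix (hg (bar i) (by rwa [lev_bar])) x
  rw [bar_bar] at this
  rw [this, hx i hi]

/-- Clearing the extra coordinate of a singular vector. -/
theorem kill (k : ℕ) (p : W) (hsupp : ∀ i, lev i < k → p (.inr i) = 0) (hp : p ≠ 0)
    (hQ : quadFormOdd m F p = 0) : ∃ e ∈ E F m k, act e p (.inl ()) = 0 := by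
  obtain ⟨c, hc⟩ : ∃ c, p (.inr c) ≠ 0 := by
    by_contra h
    push Not at h
    refine hp (vec_ext ?_ (funext h))
    rw [Q_eq, show hy p = 0 from funext h, Ortho.Q_zero, add_zero] at hQ
    exact pow_eq_zero_iff two_ne_zero |>.1 hQ
  have hlc : k ≤ lev c := not_lt.1 fun h => hc (hsupp c h)
  refine ⟨sh (bar c) (-p (.inl ()) / p (.inr c)), sh_mem (by rwa [lev_bar]) _, ?_⟩
  rw [sh_inl, bar_bar, div_mul_cancel₀ _ hc, add_neg_cancel]

theorem single_supp {k : ℕ} {J : Fin m ⊕ Fin m} (hJ : ¬ lev J < k) (j : Fin m ⊕ Fin m)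
    (hj : lev j < k) : (Pi.single (.inr J) 1 : W) (.inr j) = 0 :=
  Pi.single_eq_of_ne (fun e => by cases e; exact hJ hj) _

theorem single_ne (g : OB F m) (J : Fin m ⊕ Fin m) : act g (Pi.single (.inr J) 1) ≠ 0 := fun e => by
  have := congrArg (act g⁻¹) e
  rw [← act_mul, inv_mul_cancel, act_one] at this
  simpa [act] using congrFun this (.inr J)

theorem match_step (k : ℕ) (K : Fin m ⊕ Fin m) (hlK : lev K = k) {g : OB F m} (hg : g ∈ fixK F m k)
    (h0 : act g (Pi.single (.inr K) 1) (.inl ()) = 0)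
    (h1 : act g (Pi.single (.inr K) 1) (.inr K) = 1) :
    ∃ e ∈ E F m 0, e * g ∈ fixK F m (k + 1) := by
  have hsK : ∀ j, lev j < k → (Pi.single (.inr K) 1 : W) (.inr j) = 0 :=
    single_supp (by omega)
  set p := act g (Pi.single (.inr K) 1) with hp
  have hQp : Cfsg.quadFormPlus m F (hy p) = 0 := by
    have := Q_act g (Pi.single (.inr K) 1)
    rwa [← hp, Q_eq, h0, zero_pow two_ne_zero, zero_add, Q_single_inr] at this
  obtain ⟨e₂, he₂, -, h2⟩ := to_basis k K hlK (hy p) h1 hQp (supp_act hg hsK)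
  set g2 := emb e₂ * g with hg2def
  have hg2 : g2 ∈ fixK F m k := Subgroup.mul_mem _ (E_le_fixK k (emb_mem he₂)) hg
  have hK2 : act g2 (Pi.single (.inr K) 1) = Pi.single (.inr K) 1 := by
    rw [hg2def, act_mul, ← hp]
    exact vec_ext (by rw [emb_inl, h0]; simp) (by rw [hy_emb, h2, hy_single])
  have hbK : ¬ lev (bar K) < k := by rw [lev_bar]; omega
  set q := act g2 (Pi.single (.inr (bar K)) 1) with hq
  have hqK : q (.inr (bar K)) = 1 := by rw [hq, coord_of_fix hK2, Pi.single_eq_same]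
  set e₃ := sh K (-q (.inl ())) with he₃
  have he₃E : e₃ ∈ E F m k := sh_mem hlK.ge _
  set g3 := e₃ * g2 with hg3def
  have hg3 : g3 ∈ fixK F m k := Subgroup.mul_mem _ (E_le_fixK k he₃E) hg2
  have hK3 : act g3 (Pi.single (.inr K) 1) = Pi.single (.inr K) 1 := by
    rw [hg3def, act_mul, hK2, he₃, sh_fix _ _ (bar_ne K).symm]
  set q' := act g3 (Pi.single (.inr (bar K)) 1) with hq'
  have hq0 : q' (.inl ()) = 0 := by
    rw [hq', hg3def, act_mul, ← hq, he₃, sh_inl, hqK, mul_one, add_neg_cancel]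
  have hQq : Cfsg.quadFormPlus m F (hy q') = 0 := by
    have := Q_act g3 (Pi.single (.inr (bar K)) 1)
    rwa [← hq', Q_eq, hq0, zero_pow two_ne_zero, zero_add, Q_single_inr] at this
  obtain ⟨e₄, he₄, hfix, h4⟩ := to_basis k (bar K) (by rw [lev_bar, hlK]) (hy q')
    (by show q' (.inr (bar K)) = 1; rw [hq', coord_of_fix hK3, Pi.single_eq_same]) hQq
    (supp_act hg3 (single_supp hbK))
  rw [bar_bar] at hfix
  refine ⟨emb e₄ * (e₃ * emb e₂), Subgroup.mul_mem _ (E_le k (emb_mem he₄))
    (Subgroup.mul_mem _ (E_le k he₃E) (E_le k (emb_mem he₂))), fun i hi => ?_⟩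
  rw [show emb e₄ * (e₃ * emb e₂) * g = emb e₄ * g3 by rw [hg3def, hg2def]; group, act_mul]
  rcases Nat.lt_succ_iff_lt_or_eq.1 hi with h | h
  · rw [hg3 i h, E_le_fixK k (emb_mem he₄) i h]
  · rcases lev_eq (h.trans hlK.symm) with rfl | rfl
    · rw [hK3, emb_fix hfix]
    · exact vec_ext (by rw [emb_inl, ← hq', hq0]; simp) (by rw [hy_emb, ← hq', h4, hy_single])

theorem step (k : ℕ) (hk : k + 1 < m) {g : OB F m} (hg : g ∈ fixK F m k) :
    ∃ e ∈ E F m 0, e * g ∈ fixK F m (k + 1) := by
  set K : Fin m ⊕ Fin m := .inl ⟨k, by omega⟩ with hKdef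
  have hlK : lev K = k := rfl
  have hsK : ∀ j, lev j < k → (Pi.single (.inr K) 1 : W) (.inr j) = 0 :=
    single_supp (by omega)
  obtain ⟨e₀, he₀, h0⟩ := kill k _ (supp_act hg hsK) (single_ne g K)
    (by rw [Q_act, Q_single_inr])
  set g1 := e₀ * g with hg1def
  have hg1 : g1 ∈ fixK F m k := Subgroup.mul_mem _ (E_le_fixK k he₀) hg
  set p := act g1 (Pi.single (.inr K) 1) with hp
  have hp0 : p (.inl ()) = 0 := by rw [hp, hg1def, act_mul, h0]
  obtain ⟨e₁, he₁, h1⟩ := make_one k hk (hy p)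
    (fun e => single_ne g1 K (vec_ext hp0 e)) (supp_act hg1 hsK)
  obtain ⟨e, he, hfix⟩ := match_step k K hlK
    (Subgroup.mul_mem _ (E_le_fixK k (emb_mem he₁)) hg1)
    (by rw [act_mul, emb_inl, ← hp, hp0])
    (by rw [act_mul, ← hp, emb_apply]; exact h1)
  exact ⟨e * (emb e₁ * e₀), Subgroup.mul_mem _ he
    (Subgroup.mul_mem _ (E_le k (emb_mem he₁)) (E_le k he₀)),
    by rwa [mul_assoc, mul_assoc (emb e₁), ← hg1def]⟩

theorem reduce : ∀ k, k < m → ∀ g : OB F m, ∃ e ∈ E F m 0, e * g ∈ fixK F m k := by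
  intro k
  induction k with
  | zero => exact fun _ g => ⟨1, Subgroup.one_mem _, fun i hi => absurd hi (by omega)⟩
  | succ k ih =>
    intro hk g
    obtain ⟨e, he, h⟩ := ih (by omega) g
    obtain ⟨e', he', h'⟩ := step k hk h
    exact ⟨e' * e, Subgroup.mul_mem _ he' he, by rwa [mul_assoc]⟩

/-- The values of the sign of the extra coordinate. -/
def negVals : Unit ⊕ (Fin m ⊕ Fin m) → F := Sum.elim (fun _ => -1) fun _ => 1

/-- The negation of the extra coordinate. -/
def ng : OB F m :=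
  ⟨⟨diagonal negVals, diagonal negVals,
      by simp [diagonal_mul_diagonal, negVals, Function.comp_def, ← diagonal_one],
      by simp [diagonal_mul_diagonal, negVals, Function.comp_def, ← diagonal_one]⟩,
    mem_OB.2 fun x => by
      show quadFormOdd m F (diagonal negVals *ᵥ x) = _
      rw [Q_eq, Q_eq]
      congr 1
      · rw [mulVec_diagonal]; simp [negVals]
      · congr 1; funext i; show (diagonal negVals *ᵥ x) (.inr i) = _; rw [mulVec_diagonal]; simp [negVals, hy]⟩

theorem ng_apply (x : W) (i : Unit ⊕ (Fin m ⊕ Fin m)) :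
    act (ng : OB F m) x i = Sum.elim (fun _ => (-1 : F)) (fun _ => 1) i * x i := mulVec_diagonal _ x i

/-- The last index. -/
abbrev lastI (hm : 2 ≤ m) : Fin m ⊕ Fin m := .inl ⟨m - 1, by omega⟩

/-- Generators of the isometry group modulo the root elements. -/
def extra (F : Type*) [Field F] (L : Fin m ⊕ Fin m) : Set (OB F m) :=
  {ng} ∪ ({emb (sw L)} ∪ {g | ∃ c : Fˣ, g = emb (tl L c)})

theorem gens_eq_top (hm : 2 ≤ m) (H : Subgroup (OB F m)) (hE : E F m 0 ≤ H)
    (hX : extra F (lastI hm) ⊆ H) : H = ⊤ := by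
  rw [eq_top_iff]
  intro g _
  obtain ⟨e, he, hfix⟩ := reduce (m - 1) (by omega) g
  set L := lastI hm with hL
  suffices key : ∀ f ∈ fixK F m (m - 1), f ∈ H by
    have := key _ hfix
    rwa [Subgroup.mul_mem_cancel_left _ (hE he)] at this
  have hsL : ∀ j, lev j < m - 1 → (Pi.single (.inr L) 1 : W) (.inr j) = 0 :=
    single_supp (lt_irrefl _)
  have full : ∀ f ∈ fixK F m m, f ∈ H := fun f hf => by
    have hlt : ∀ j : Fin m ⊕ Fin m, lev j < m := fun j => by cases j <;> simp [lev]
    set z := act f (Pi.single (.inl ()) 1) with hz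
    have hz1 : hy z = 0 := funext fun j => by
      show z (.inr j) = 0
      have := coord_of_fix (hf (bar j) (hlt _)) (Pi.single (.inl ()) 1)
      rw [bar_bar, ← hz] at this
      rw [this]; simp
    have hsq : z (.inl ()) ^ 2 = 1 := by
      have := Q_act f (Pi.single (.inl ()) 1)
      rw [← hz, Q_eq, hz1, Ortho.Q_zero, add_zero] at this
      rw [this, Q_eq]
      have e : hy (Pi.single (.inl ()) 1 : W) = 0 := funext fun j => by simp [hy]
      rw [e, Ortho.Q_zero]
      simp
    rcases sq_eq_one_iff.1 hsq with h | h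
    · have : f = 1 := ext_single fun i => by
        rw [act_one]
        rcases i with ⟨⟨⟩⟩ | i
        · rw [← hz]
          exact vec_ext (by rw [h]; simp) (by rw [hz1]; funext j; simp [hy])
        · exact hf i (hlt i)
      rw [this]; exact H.one_mem
    · have : f = ng := ext_single fun i => by
        rcases i with ⟨⟨⟩⟩ | i
        · rw [← hz]
          refine vec_ext (by rw [h, ng_apply]; simp) ?_
          rw [hz1]; funext j; simp [hy, ng_apply]
        · rw [hf i (hlt i)]
          funext j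
          rw [ng_apply, Pi.single_apply]
          rcases j with ⟨⟨⟩⟩ | j <;> simp
      rw [this]; exact hX (Or.inl rfl)
  have norm1 : ∀ f ∈ fixK F m (m - 1), act f (Pi.single (.inr L) 1) (.inl ()) = 0 →
      act f (Pi.single (.inr L) 1) (.inr L) ≠ 0 → f ∈ H := fun f hf h0 hne => by
    set t := emb (tl L (Units.mk0 _ hne)⁻¹) with ht
    have htH : t ∈ H := hX (Or.inr (Or.inr ⟨_, rfl⟩))
    have htf : t ∈ fixK F m (m - 1) := fun i hi => emb_fix (by
      funext j
      rw [tl, dg_apply, Pi.single_apply]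
      by_cases e : j = i
      · subst e
        have h1 : j ≠ L := fun e => by subst e; exact absurd hi (lt_irrefl _)
        have h2 : j ≠ bar L := fun e => by subst e; rw [lev_bar] at hi; exact absurd hi (lt_irrefl _)
        simp [dL, h1, h2]
      · simp [e])
    obtain ⟨e', he', h'⟩ := match_step (m - 1) L rfl (Subgroup.mul_mem _ htf hf)
      (by rw [act_mul, emb_inl, h0]) (by
        rw [act_mul, ht, emb_apply, Sum.elim_inr, tl, dg_apply]
        simp [dL, hy, hne])
    have := full _ (Nat.sub_add_cancel (by omega : 1 ≤ m) ▸ h')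
    rwa [Subgroup.mul_mem_cancel_left _ (hE he'), Subgroup.mul_mem_cancel_left _ htH] at this
  intro f hf
  obtain ⟨e₀, he₀, h0⟩ := kill (m - 1) _ (supp_act hf hsL) (single_ne f L) (by rw [Q_act, Q_single_inr])
  rw [← Subgroup.mul_mem_cancel_left H (hE (E_le _ he₀))]
  set f1 := e₀ * f with hf1def
  have hf1 : f1 ∈ fixK F m (m - 1) := Subgroup.mul_mem _ (E_le_fixK _ he₀) hf
  rw [← act_mul, ← hf1def] at h0
  by_cases hne : act f1 (Pi.single (.inr L) 1) (.inr L) = 0
  swap
  · exact norm1 f1 hf1 h0 hne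
  have hs : emb (sw L) ∈ fixK F m (m - 1) := fun i hi => emb_fix (funext fun j => by
    rw [sw_apply]
    have hiL : i ≠ L := fun e => by subst e; exact absurd hi (lt_irrefl _)
    have hiL' : i ≠ bar L := fun e => by
      subst e; rw [lev_bar] at hi; exact absurd hi (lt_irrefl _)
    have : swp L i = i := Equiv.swap_apply_of_ne_of_ne hiL hiL'
    rw [Pi.single_apply, Pi.single_apply]
    exact if_congr ⟨fun e => (swp L).injective (e.trans this.symm), fun e => e ▸ this⟩ rfl rfl)
  have hsH : emb (sw L) ∈ H := hX (Or.inr (Or.inl rfl))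
  rw [← Subgroup.mul_mem_cancel_left H hsH]
  refine norm1 _ (Subgroup.mul_mem _ hs hf1) (by rw [act_mul, emb_inl, h0]) ?_
  rw [act_mul, emb_apply, Sum.elim_inr, sw_apply, swp, Equiv.swap_apply_left]
  intro hb
  refine single_ne f1 L (vec_ext h0 (funext fun j => ?_))
  by_cases hj : lev j < m - 1
  · exact supp_act hf1 hsL j hj
  · rcases lev_eq (show lev j = lev L by
      have : lev j < m := by cases j <;> simp [lev]
      show lev j = m - 1
      omega) with rfl | rfl
    · exact hne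
    · exact hb

theorem pair_ok {K J : Fin m ⊕ Fin m} (h : lev K ≠ lev J) : Ok K J :=
  ⟨fun e => h (by rw [e]), fun e => h (by rw [e, lev_bar])⟩

theorem sh_dg_conj {d : Fin m ⊕ Fin m → F} (hd : ∀ i, d i * d (bar i) = 1) (a : Fin m ⊕ Fin m)
    (t : F) : emb (dg d hd) * sh a t = sh a (t * d a) * emb (dg d hd) := by
  refine ext_act fun x => funext fun i => ?_
  have ha := hd a
  rcases i with ⟨⟨⟩⟩ | i
  · simp only [act_mul, emb_inl, sh_inl, emb_apply, Sum.elim_inr, Sum.elim_inl, dg_apply, hy]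
    linear_combination (-(t * x (.inr (bar a)))) * ha
  · simp only [act_mul, emb_apply, Sum.elim_inr, dg_apply, hy, sh_apply, Sum.inr.injEq,
      reduceCtorEq, if_false, add_zero, Sum.elim_inl]
    by_cases e : i = a
    · subst e
      simp only [if_true]
      linear_combination (t ^ 2 * d i * x (.inr (bar i))) * ha
    · simp [e]

theorem sh_sw_conj (K : Fin m ⊕ Fin m) (a : Fin m ⊕ Fin m) (t : F) :
    emb (sw K) * sh a t = sh (swp K a) t * emb (sw K) := by
  refine ext_act fun x => funext fun i => ?_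
  have hs : ∀ j, swp K (swp K j) = j := fun j => Equiv.swap_apply_self ..
  rcases i with ⟨⟨⟩⟩ | i
  · simp only [act_mul, emb_inl, sh_inl, emb_apply, Sum.elim_inr, Sum.elim_inl, sw_apply, hy, ← swp_bar, hs]
  · have key : swp K i = a ↔ i = swp K a :=
      ⟨fun e => by rw [← e, hs], fun e => by rw [e, hs]⟩
    simp only [act_mul, emb_apply, Sum.elim_inr, sw_apply, hy, sh_apply, Sum.inr.injEq,
      reduceCtorEq, if_false, add_zero, Sum.elim_inl, key, ← swp_bar, hs]

theorem sh_ng_conj (a : Fin m ⊕ Fin m) (t : F) :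
    (ng : OB F m) * sh a t = sh a (-t) * ng := by
  refine ext_act fun x => funext fun i => ?_
  rcases i with ⟨⟨⟩⟩ | i
  · simp only [act_mul, ng_apply, sh_inl, Sum.elim_inl, Sum.elim_inr]
    ring
  · simp only [act_mul, ng_apply, sh_apply, Sum.elim_inl, Sum.elim_inr, Sum.inr.injEq, reduceCtorEq,
      if_false, add_zero]
    split_ifs <;> ring

theorem ng_commute (g : OG F m) : Commute (ng : OB F m) (emb g) := by
  refine ext_act fun x => vec_ext ?_ ?_
  · simp only [act_mul, emb_inl, ng_apply, Sum.elim_inl]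
  · have h1 : ∀ y : W, hy (act (ng : OB F m) y) = hy y := fun y => by
      funext j; show act (ng : OB F m) y (.inr j) = y (.inr j); rw [ng_apply]; simp
    rw [act_mul, act_mul, h1, hy_emb, hy_emb, h1]

theorem normal_E (hm : 2 ≤ m) : (E F m 0).Normal := by
  set L := lastI hm with hL
  rw [← Subgroup.normalizer_eq_top_iff]
  have key : ∀ u : OB F m, (∀ x ∈ Ortho.E F m 0, u * emb x * u⁻¹ ∈ E F m 0) →
      (∀ a t, ∃ a' t', u * sh a t = sh a' t' * u) → ∀ x ∈ E F m 0, u * x * u⁻¹ ∈ E F m 0 := by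
    intro u h1 h2
    have : E F m 0 ≤ (E F m 0).comap (MulAut.conj u).toMonoidHom := by
      refine sup_le ?_ ((Subgroup.closure_le _).2 ?_)
      · rintro _ ⟨g, hg, rfl⟩
        exact h1 g hg
      · rintro _ ⟨a, t, -, rfl⟩
        obtain ⟨a', t', e⟩ := h2 a t
        show u * sh a t * u⁻¹ ∈ E F m 0
        rw [e, mul_inv_cancel_right]
        exact sh_mem (by omega) _
    exact fun x hx => this hx
  have heven : ∀ u : OG F m, (∀ (a b : Fin m ⊕ Fin m) (h : Ok a b) (t : F),
      ∃ (a' b' : Fin m ⊕ Fin m) (h' : Ok a' b') (t' : F), u * el h t = el h' t' * u) →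
      ∀ x ∈ Ortho.E F m 0, emb u * emb x * (emb u)⁻¹ ∈ E F m 0 := by
    intro u hu
    have : Ortho.E F m 0 ≤ (Ortho.E F m 0).comap (MulAut.conj u).toMonoidHom := by
      refine (Subgroup.closure_le _).2 ?_
      rintro _ ⟨a, b, h, t, -, -, rfl⟩
      obtain ⟨a', b', h', t', e⟩ := hu a b h t
      show u * el h t * u⁻¹ ∈ Ortho.E F m 0
      rw [e, mul_inv_cancel_right]
      exact el_mem h' t' (by omega) (by omega)
    intro x hx
    rw [← map_inv, ← map_mul, ← map_mul]
    exact emb_mem (this hx)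
  have conv : ∀ u : OB F m, (∀ x ∈ E F m 0, u * x * u⁻¹ ∈ E F m 0) →
      (∀ x ∈ E F m 0, u⁻¹ * x * u ∈ E F m 0) →
      u ∈ Subgroup.normalizer (E F m 0 : Set (OB F m)) := fun u h1 h2 => by
    refine Subgroup.mem_normalizer_iff.2 fun x => ⟨h1 x, fun h => ?_⟩
    have := h2 _ h
    rwa [show u⁻¹ * (u * x * u⁻¹) * u = x by group] at this
  refine gens_eq_top hm _ Subgroup.le_normalizer ?_
  have ht : ∀ c, ∀ x ∈ E F m 0, emb (tl L c) * x * (emb (tl L c))⁻¹ ∈ E F m 0 := fun c =>
    key _ (heven _ fun a b h t => ⟨a, b, h, _, dg_conj _ h t⟩)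
      fun a t => ⟨a, _, sh_dg_conj _ a t⟩
  have hs : ∀ x ∈ E F m 0, emb (sw L) * x * (emb (sw L))⁻¹ ∈ E F m 0 :=
    key _ (heven _ fun a b h t =>
      have h' : Ok (swp L a) (swp L b) := ⟨fun e => h.1 ((swp L).injective e),
        fun e => h.2 ((swp L).injective (e.trans (swp_bar L a).symm))⟩
      ⟨_, _, h', t, sw_conj L h h' t⟩) fun a t => ⟨_, t, sh_sw_conj L a t⟩
  have hn : ∀ x ∈ E F m 0, ng * x * ng⁻¹ ∈ E F m 0 :=
    key _ (fun x hx => by rw [(ng_commute x).eq, mul_inv_cancel_right]; exact emb_mem hx)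
      fun a t => ⟨a, _, sh_ng_conj a t⟩
  have ngsq : (ng : OB F m)⁻¹ = ng := inv_eq_of_mul_eq_one_right (ext_act fun x => funext fun i => by
    rw [act_mul, act_one, ng_apply, ng_apply]
    rcases i with ⟨⟨⟩⟩ | i <;> simp)
  have swsq : (emb (sw L) : OB F m)⁻¹ = emb (sw L) := by
    rw [← map_inv]
    refine congrArg emb ?_
    exact inv_eq_of_mul_eq_one_right (Ortho.ext_act fun x => funext fun i => by
      simp [Ortho.act_mul, Ortho.act_one, sw_apply, swp])
  have tlinv : ∀ c : Fˣ, (emb (tl L c) : OB F m)⁻¹ = emb (tl L c⁻¹) := fun c => by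
    refine inv_eq_of_mul_eq_one_right ?_
    rw [← map_mul, tl_mul, mul_inv_cancel,
      show (tl L (1 : Fˣ) : OG F m) = 1 from Ortho.ext_act fun x => funext fun i => by
        simp [tl, dg_apply, dL, Ortho.act_one], map_one]
  rintro u (rfl | rfl | ⟨c, rfl⟩)
  · exact conv _ hn fun x hx => by
      have := hn x hx
      rw [ngsq] at this ⊢
      exact this
  · exact conv _ hs fun x hx => by
      have := hs x hx
      rw [swsq] at this ⊢
      exact this
  · exact conv _ (ht c) fun x hx => by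
      have := ht c⁻¹ x hx
      rwa [← tlinv, inv_inv] at this

theorem commutator_le (hm : 2 ≤ m) : commutator (OB F m) ≤ E F m 0 := by
  haveI := normal_E (F := F) hm
  set L := lastI hm with hL
  set q := QuotientGroup.mk' (E F m 0) with hq
  have hz : ∀ e ∈ E F m 0, q e = 1 := fun e he => (QuotientGroup.eq_one_iff e).2 he
  have hA : ∀ c : Fˣ, q (emb (tl L c⁻¹)) = q (emb (tl L c)) := fun c => by
    have h2 : q (emb (tl L (c * c))) = 1 :=
      hz _ (emb_mem (tl_sq_mem (J := .inl ⟨0, by omega⟩) (by show m - 1 ≠ 0; omega) c))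
    calc q (emb (tl L c⁻¹)) = q (emb (tl L c⁻¹)) * q (emb (tl L (c * c))) := by rw [h2, mul_one]
      _ = q (emb (tl L c)) := by rw [← map_mul, ← map_mul, tl_mul, inv_mul_cancel_left]
  have hpair : ∀ u ∈ extra F L, ∀ v ∈ extra F L, Commute (q u) (q v) := by
    have hS : ∀ c : Fˣ, Commute (q (emb (tl L c))) (q (emb (sw L))) := fun c => by
      show _ * _ = _ * _
      rw [← map_mul q (emb (sw L)), ← map_mul emb, sw_tl, map_mul, map_mul, hA]
    have hT : ∀ c d : Fˣ, Commute (q (emb (tl L c))) (q (emb (tl L d))) := fun c d => by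
      show _ * _ = _ * _
      rw [← map_mul, ← map_mul, ← map_mul, ← map_mul, tl_mul, tl_mul, mul_comm c]
    have hN : ∀ g : OG F m, Commute (q ng) (q (emb g)) := fun g => (ng_commute g).map q
    rintro u (rfl | rfl | ⟨c, rfl⟩) v (rfl | rfl | ⟨d, rfl⟩)
    exacts [Commute.refl _, hN _, hN _, (hN _).symm, Commute.refl _, (hS d).symm, (hN _).symm,
      hS c, hT c d]
  have h1 : ∀ u ∈ extra F L, ∀ g, Commute (q u) (q g) := fun u hu g => by
    have : (Subgroup.centralizer {q u}).comap q = ⊤ := gens_eq_top hm _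
      (fun e he => by
        rw [Subgroup.mem_comap, hz e he]; exact Subgroup.one_mem _)
      (fun v hv => Subgroup.mem_centralizer_singleton_iff.2 (hpair v hv u hu).eq)
    exact (Subgroup.mem_centralizer_singleton_iff.1
      (Subgroup.mem_comap.1 (this.ge (Subgroup.mem_top g)))).symm
  rw [commutator_def, Subgroup.commutator_le]
  intro g _ g' _
  rw [← QuotientGroup.eq_one_iff]
  show q ⁅g, g'⁆ = 1
  rw [map_commutatorElement, commutatorElement_eq_one_iff_commute]
  have : (Subgroup.centralizer {q g'}).comap q = ⊤ := gens_eq_top hm _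
    (fun e he => by
      rw [Subgroup.mem_comap, hz e he]; exact Subgroup.one_mem _)
    (fun v hv => Subgroup.mem_centralizer_singleton_iff.2 (h1 v hv g').eq)
  exact Subgroup.mem_centralizer_singleton_iff.1 (Subgroup.mem_comap.1 (this.ge (Subgroup.mem_top g)))

theorem E_le_commutator (hF : ∃ a : F, a ≠ 0 ∧ a ≠ 1) : E F m 0 ≤ commutator (OB F m) := by
  obtain ⟨w, hw0, hw1⟩ := hF
  have hne : w - 1 ≠ 0 := sub_ne_zero.2 hw1
  set c : Fˣ := Units.mk0 w hw0 with hc
  have hcomm : ∀ x y : OB F m, ⁅x, y⁆ ∈ commutator (OB F m) := fun x y =>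
    Subgroup.commutator_mem_commutator (Subgroup.mem_top _) (Subgroup.mem_top _)
  refine sup_le ?_ ((Subgroup.closure_le _).2 ?_)
  · rw [Ortho.E, MonoidHom.map_closure, Subgroup.closure_le]
    rintro _ ⟨_, ⟨a, b, h, t, -, -, rfl⟩, rfl⟩
    set s := t / (w - 1) with hs
    have hb : dL a c b = 1 := by simp [dL, h.1.symm, h.2]
    have e : el h t = ⁅tl a c, el h s⁆ := by
      rw [commutatorElement_def, tl, dg_conj _ h s, hb, mul_one, show dL a c a = (c : F) by simp [dL],
        mul_inv_cancel_right, eq_mul_inv_iff_mul_eq, el_mul, hc, Units.val_mk0]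
      congr 1
      rw [hs]; field_simp; ring
    rw [e, map_commutatorElement]
    exact hcomm _ _
  · rintro _ ⟨a, t, -, rfl⟩
    set s := t / (w - 1) with hs
    have e : sh a t = ⁅emb (tl a c), sh a s⁆ := by
      rw [commutatorElement_def, tl, sh_dg_conj, show dL a c a = (c : F) by simp [dL],
        mul_inv_cancel_right, eq_mul_inv_iff_mul_eq, sh_mul, hc, Units.val_mk0]
      congr 1
      rw [hs]; field_simp; ring
    rw [e]
    exact hcomm _ _

/-- The commutator subgroup of the isometry group is generated by the root elements. -/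
theorem commutator_eq (hm : 2 ≤ m) (hF : ∃ a : F, a ≠ 0 ∧ a ≠ 1) :
    commutator (OB F m) = E F m 0 :=
  le_antisymm (commutator_le hm) (E_le_commutator hF)

end Odd

end Cfsg.Agent.Chev.Ortho
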