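import Cfsg.Prelude
import Mathlib

/-!
The commutator subgroup of the isometry group of a hyperbolic quadratic form in dimension `2 m`, `m ≥ 3`, over
any field: it is generated by the root elements.
-/

set_option autoImplicit false

namespace Cfsg.Agent.Chev.Ortho

open Matrix
open scoped commutatorElement

variable {F : Type*} [Field F] {m : ℕ}

local notation "V" => Fin m ⊕ Fin m → F

/-- The opposite index. -/
abbrev bar {m : ℕ} (i : Fin m ⊕ Fin m) : Fin m ⊕ Fin m := Sum.swap i

/-- The level of an index. -/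
def lev {m : ℕ} (i : Fin m ⊕ Fin m) : ℕ := Sum.elim Fin.val Fin.val i

theorem bar_bar (i : Fin m ⊕ Fin m) : bar (bar i) = i := Sum.swap_swap i

theorem bar_ne (i : Fin m ⊕ Fin m) : bar i ≠ i := by cases i <;> simp [bar]

theorem bar_inj {i j : Fin m ⊕ Fin m} (h : bar i = bar j) : i = j := by
  simpa [bar] using congrArg Sum.swap h

theorem lev_bar (i : Fin m ⊕ Fin m) : lev (bar i) = lev i := by cases i <;> rfl

theorem lev_eq {i j : Fin m ⊕ Fin m} (h : lev i = lev j) : i = j ∨ i = bar j := by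
  cases i <;> cases j <;> simp_all [lev, bar, Fin.ext_iff]

theorem Q_add_single (x : V) (i : Fin m ⊕ Fin m) (s : F) :
    quadFormPlus m F (x + Pi.single i s) = quadFormPlus m F x + s * x (bar i) := by
  cases i with
  | inl j =>
    simp only [quadFormPlus, Pi.add_apply, add_mul, mul_add, bar, Sum.swap_inl]
    simp [Pi.single_apply, Finset.sum_add_distrib]
  | inr j =>
    simp only [quadFormPlus, Pi.add_apply, add_mul, mul_add, bar, Sum.swap_inr]
    simp [Pi.single_apply, Finset.sum_add_distrib, mul_comm]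

theorem Q_zero : quadFormPlus m F (0 : V) = 0 := by simp [quadFormPlus]

theorem Q_single (i : Fin m ⊕ Fin m) (s : F) : quadFormPlus m F (Pi.single i s : V) = 0 := by
  have := Q_add_single (0 : V) i s
  rwa [zero_add, Q_zero, Pi.zero_apply, mul_zero, add_zero] at this

theorem Q_two (i : Fin m ⊕ Fin m) (s r : F) :
    quadFormPlus m F ((Pi.single i s : V) + Pi.single (bar i) r) = r * s := by
  rw [Q_add_single, Q_single, bar_bar, Pi.single_eq_same, zero_add]

/-- The isometry group. -/
abbrev OG (F : Type*) [Field F] (m : ℕ) : Subgroup (GL (Fin m ⊕ Fin m) F) :=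
  Cfsg.isometryGroup F (quadFormPlus m F)

/-- The action on vectors. -/
def act (g : OG F m) (x : V) : V := (g.1 : Matrix (Fin m ⊕ Fin m) (Fin m ⊕ Fin m) F) *ᵥ x

theorem act_mul (g h : OG F m) (x : V) : act (g * h) x = act g (act h x) :=
  (mulVec_mulVec _ _ _).symm

theorem act_one (x : V) : act (1 : OG F m) x = x := one_mulVec x

theorem act_add (g : OG F m) (x y : V) : act g (x + y) = act g x + act g y := mulVec_add _ _ _

theorem mem_OG {g : GL (Fin m ⊕ Fin m) F} :
    g ∈ OG F m ↔ ∀ x : V, quadFormPlus m F ((g : Matrix _ _ F) *ᵥ x) = quadFormPlus m F x := by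
  exact ⟨fun h x => h x 0, fun h u _ => h u⟩

theorem Q_act (g : OG F m) (x : V) : quadFormPlus m F (act g x) = quadFormPlus m F x :=
  mem_OG.1 g.2 x

theorem ext_act {g h : OG F m} (e : ∀ x, act g x = act h x) : g = h :=
  Subtype.ext (Units.ext (Matrix.toLin'.injective (LinearMap.ext fun x => e x)))

theorem ext_single {g h : OG F m} (e : ∀ i, act g (Pi.single i 1) = act h (Pi.single i 1)) : g = h :=
  Subtype.ext (Units.ext (Matrix.ext fun i j => by simpa [act] using congrFun (e j) i))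

/-! ### Root elements -/

/-- The condition on a pair of indices giving a root. -/
def Ok {m : ℕ} (a b : Fin m ⊕ Fin m) : Prop := a ≠ b ∧ b ≠ bar a

/-- The nilpotent matrix of a root. -/
def rootN (a b : Fin m ⊕ Fin m) : Matrix (Fin m ⊕ Fin m) (Fin m ⊕ Fin m) F :=
  single a (bar b) 1 - single b (bar a) 1

theorem rootN_mulVec (a b i : Fin m ⊕ Fin m) (x : V) :
    (rootN a b *ᵥ x : V) i = (if i = a then x (bar b) else 0) - if i = b then x (bar a) else 0 := by
  simp [rootN, sub_mulVec, single_mulVec, Function.update_apply]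

theorem rootN_sq {a b : Fin m ⊕ Fin m} (h : Ok a b) : rootN (F := F) a b * rootN a b = 0 := by
  have h1 : bar b ≠ a := fun e => h.2 (by rw [← e, bar_bar])
  simp [rootN, sub_mul, mul_sub, single_mul_single_of_ne, bar_ne, h1, h.2.symm, h1.symm, h.1]

/-- A root element as a unit. -/
def rootU {a b : Fin m ⊕ Fin m} (h : Ok a b) (t : F) : GL (Fin m ⊕ Fin m) F where
  val := 1 + t • rootN a b
  inv := 1 - t • rootN a b
  val_inv := by simp [add_mul, mul_sub, rootN_sq h]
  inv_val := by simp [sub_mul, mul_add, rootN_sq h]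

theorem rootU_mulVec {a b : Fin m ⊕ Fin m} (h : Ok a b) (t : F) (x : V) :
    ((rootU h t : GL (Fin m ⊕ Fin m) F) : Matrix _ _ F) *ᵥ x =
      x + Pi.single a (t * x (bar b)) + Pi.single b (-(t * x (bar a))) := by
  funext i
  show ((1 + t • rootN a b) *ᵥ x) i = _
  simp only [add_mulVec, one_mulVec, smul_mulVec, Pi.add_apply, Pi.smul_apply, rootN_mulVec,
    Pi.single_apply, smul_eq_mul]
  split_ifs <;> ring

theorem rootU_mem {a b : Fin m ⊕ Fin m} (h : Ok a b) (t : F) : rootU h t ∈ OG F m := by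
  refine mem_OG.2 fun x => ?_
  rw [rootU_mulVec, Q_add_single, Q_add_single, Pi.add_apply,
    Pi.single_eq_of_ne (fun e => h.2 (by rw [← e, bar_bar]))]
  ring

/-- A root element. -/
def el {a b : Fin m ⊕ Fin m} (h : Ok a b) (t : F) : OG F m := ⟨rootU h t, rootU_mem h t⟩

theorem el_apply {a b : Fin m ⊕ Fin m} (h : Ok a b) (t : F) (x : V) (i : Fin m ⊕ Fin m) :
    act (el h t) x i =
      x i + (if i = a then t * x (bar b) else 0) - if i = b then t * x (bar a) else 0 := by
  rw [act, show ((el h t).1 : Matrix (Fin m ⊕ Fin m) (Fin m ⊕ Fin m) F) = rootU h t from rfl,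
    rootU_mulVec]
  simp only [Pi.add_apply, Pi.single_apply]
  split_ifs <;> ring

theorem el_other {a b : Fin m ⊕ Fin m} (h : Ok a b) (t : F) (x : V) {i : Fin m ⊕ Fin m}
    (ha : i ≠ a) (hb : i ≠ b) : act (el h t) x i = x i := by
  rw [el_apply, if_neg ha, if_neg hb, add_zero, sub_zero]

theorem el_fst {a b : Fin m ⊕ Fin m} (h : Ok a b) (t : F) (x : V) :
    act (el h t) x a = x a + t * x (bar b) := by
  rw [el_apply, if_pos rfl, if_neg h.1, sub_zero]

theorem el_mul {a b : Fin m ⊕ Fin m} (h : Ok a b) (t t' : F) :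
    el h t * el h t' = el h (t + t') := by
  have h1 : bar b ≠ a := fun e => h.2 (by rw [← e, bar_bar])
  refine ext_act fun x => funext fun i => ?_
  simp only [act_mul, el_apply, h1, bar_ne, (bar_ne _).symm, h.2.symm, if_false, add_zero, sub_zero]
  split_ifs <;> ring

theorem el_fix {a b : Fin m ⊕ Fin m} (h : Ok a b) (t : F) {i : Fin m ⊕ Fin m}
    (ha : i ≠ bar a) (hb : i ≠ bar b) : act (el h t) (Pi.single i 1) = Pi.single i 1 := by
  funext j
  simp [el_apply, Pi.single_apply, ha.symm, hb.symm]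

/-- The subgroup generated by the root elements with levels at least `k`. -/
def E (F : Type*) [Field F] (m k : ℕ) : Subgroup (OG F m) :=
  Subgroup.closure {g | ∃ (a b : Fin m ⊕ Fin m) (h : Ok a b) (t : F),
    k ≤ lev a ∧ k ≤ lev b ∧ g = el h t}

theorem el_mem {a b : Fin m ⊕ Fin m} (h : Ok a b) (t : F) {k : ℕ} (ha : k ≤ lev a) (hb : k ≤ lev b) :
    el h t ∈ E F m k := Subgroup.subset_closure ⟨a, b, h, t, ha, hb, rfl⟩

theorem E_le (k : ℕ) : E F m k ≤ E F m 0 :=
  Subgroup.closure_mono fun _ ⟨a, b, h, t, _, _, e⟩ => ⟨a, b, h, t, by omega, by omega, e⟩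

/-- The elements fixing the basis vectors of level less than `k`. -/
def fixK (F : Type*) [Field F] (m k : ℕ) : Subgroup (OG F m) where
  carrier := {g | ∀ i : Fin m ⊕ Fin m, lev i < k → act g (Pi.single i 1) = Pi.single i 1}
  one_mem' i _ := act_one _
  mul_mem' {g h} hg hh i hi := by rw [act_mul, hh i hi, hg i hi]
  inv_mem' {g} hg i hi := by
    conv_lhs => rw [← hg i hi, ← act_mul, inv_mul_cancel, act_one]

theorem E_le_fixK (k : ℕ) : E F m k ≤ fixK F m k := by
  refine (Subgroup.closure_le _).2 ?_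
  rintro _ ⟨a, b, h, t, ha, hb, rfl⟩ i hi
  exact el_fix h t (fun e => by subst e; rw [lev_bar] at hi; omega)
    (fun e => by subst e; rw [lev_bar] at hi; omega)

theorem polar_act (g : OG F m) (x : V) (i : Fin m ⊕ Fin m) :
    quadFormPlus m F (act g x + act g (Pi.single i 1)) =
      quadFormPlus m F x + x (bar i) := by
  rw [← act_add, Q_act, Q_add_single, one_mul]

/-- The coordinate opposite to a fixed basis vector is unchanged. -/
theorem coord_of_fix {g : OG F m} {i : Fin m ⊕ Fin m}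
    (h : act g (Pi.single i 1) = Pi.single i 1) (x : V) : act g x (bar i) = x (bar i) := by
  have := polar_act g x i
  rwa [h, Q_add_single, Q_act, one_mul, add_right_inj] at this

theorem supp_act {g : OG F m} {k : ℕ} (hg : g ∈ fixK F m k) {x : V}
    (hx : ∀ i, lev i < k → x i = 0) : ∀ i, lev i < k → act g x i = 0 := fun i hi => by
  have := coord_of_fix (hg (bar i) (by rwa [lev_bar])) x
  rw [bar_bar] at this
  rw [this, hx i hi]

/-! ### Transitivity -/

theorem clear (k : ℕ) (K : Fin m ⊕ Fin m) (hK : lev K = k) (S : Finset (Fin m ⊕ Fin m))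
    (hS : ∀ c ∈ S, k < lev c) (p : V) (hp : p K = 1) :
    ∃ e ∈ E F m k, act e (Pi.single (bar K) 1) = Pi.single (bar K) 1 ∧ act e p K = 1 ∧
      (∀ c ∈ S, act e p c = 0) ∧ ∀ i, i ∉ S → i ≠ bar K → act e p i = p i := by
  classical
  induction S using Finset.induction_on with
  | empty => exact ⟨1, Subgroup.one_mem _, act_one _, by rw [act_one, hp], by simp,
      fun i _ _ => by rw [act_one]⟩
  | insert c S hc ih =>
    obtain ⟨e, he, hfix, hK1, hz, hrest⟩ := ih fun c h => hS c (Finset.mem_insert_of_mem h)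
    have hlc := hS c (Finset.mem_insert_self _ _)
    have hne : ∀ d : Fin m ⊕ Fin m, lev d = k → c ≠ d := fun d hd e => by subst e; omega
    have hbk : lev (bar K) = k := by rw [lev_bar, hK]
    have hok : Ok c (bar K) :=
      ⟨hne _ hbk, fun e => hne K hK (bar_inj e.symm)⟩
    refine ⟨el hok (-(act e p c)) * e,
      Subgroup.mul_mem _ (el_mem hok _ (by omega) (by omega)) he, ?_, ?_, ?_, ?_⟩
    · rw [act_mul, hfix, el_fix hok _ (fun e => hne K hK (bar_inj e.symm))
        (fun e => bar_ne K (by rw [bar_bar] at e; exact e))]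
    · rw [act_mul, el_other hok _ _ (hne K hK).symm (bar_ne K).symm, hK1]
    · intro d hd
      rw [act_mul]
      rcases Finset.mem_insert.1 hd with rfl | hd'
      · rw [el_fst, bar_bar, hK1, mul_one, add_neg_cancel]
      · have hdK : d ≠ bar K := fun e => by
          have := hS d hd
          subst e; omega
        rw [el_other hok _ _ (fun e => hc (e ▸ hd')) hdK, hz d hd']
    · intro i hi hiK
      rw [Finset.mem_insert, not_or] at hi
      rw [act_mul, el_other hok _ _ hi.1 hiK, hrest i hi.2 hiK]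

theorem to_basis (k : ℕ) (K : Fin m ⊕ Fin m) (hK : lev K = k) (p : V) (hp : p K = 1)
    (hQ : quadFormPlus m F p = 0) (hsupp : ∀ i, lev i < k → p i = 0) :
    ∃ e ∈ E F m k, act e (Pi.single (bar K) 1) = Pi.single (bar K) 1 ∧
      act e p = Pi.single K 1 := by
  classical
  obtain ⟨e, he, hfix, hK1, hz, hrest⟩ :=
    clear k K hK (Finset.univ.filter fun c => k < lev c) (fun c hc => (Finset.mem_filter.1 hc).2) p hp
  have hform : act e p = Pi.single K 1 + Pi.single (bar K) (act e p (bar K)) := by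
    funext i
    rcases Nat.lt_trichotomy (lev i) k with h | h | h
    · have h1 : i ≠ K := fun e => by subst e; omega
      have h2 : i ≠ bar K := fun e => by subst e; rw [lev_bar] at h; omega
      rw [hrest i (by simp; omega) h2, hsupp i h]
      simp [h1, h2]
    · rcases lev_eq (h.trans hK.symm) with rfl | rfl
      · simp [hK1, (bar_ne i).symm]
      · simp [bar_ne K]
    · have h1 : i ≠ K := fun e => by subst e; omega
      have h2 : i ≠ bar K := fun e => by subst e; rw [lev_bar] at h; omega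
      rw [hz i (by simp [h])]
      simp [h1, h2]
  refine ⟨e, he, hfix, ?_⟩
  have h0 : act e p (bar K) = 0 := by
    have := Q_act e p
    rw [hform, Q_two, mul_one, hQ] at this
    exact this
  rw [hform, h0, Pi.single_zero, add_zero]

theorem make_one (k : ℕ) (hk : k + 1 < m) (p : V) (hp : p ≠ 0) (hsupp : ∀ i, lev i < k → p i = 0) :
    ∃ e ∈ E F m k, act e p (.inl ⟨k, by omega⟩) = 1 := by
  set K : Fin m ⊕ Fin m := .inl ⟨k, by omega⟩ with hKdef
  set J : Fin m ⊕ Fin m := .inl ⟨k + 1, hk⟩ with hJdef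
  have hlK : lev K = k := rfl
  have hlJ : lev J = k + 1 := rfl
  have hJK : J ≠ K := fun e => by simp [hKdef, hJdef] at e
  have step1 : ∀ p : V, (∀ i, lev i < k → p i = 0) →
      (∃ a, k ≤ lev a ∧ a ≠ bar K ∧ p a ≠ 0) → ∃ e ∈ E F m k, act e p K ≠ 0 := by
    rintro p - ⟨a, hla, haK, ha⟩
    by_cases hpK : p K = 0
    swap
    · exact ⟨1, Subgroup.one_mem _, by rwa [act_one]⟩
    have haK' : a ≠ K := fun e => ha (e ▸ hpK)
    have hok : Ok K (bar a) := ⟨fun e => haK (by rw [e, bar_bar]), fun e => haK' (bar_inj e)⟩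
    refine ⟨el hok 1, el_mem hok _ hlK.ge (by rw [lev_bar]; exact hla), ?_⟩
    rwa [el_fst, bar_bar, hpK, zero_add, one_mul]
  obtain ⟨e₁, he₁, h₁⟩ : ∃ e ∈ E F m k, act e p K ≠ 0 := by
    obtain ⟨a, ha⟩ := Function.ne_iff.1 hp
    have hla : k ≤ lev a := not_lt.1 fun h => ha (hsupp a h)
    by_cases haK : a = bar K
    swap
    · exact step1 p hsupp ⟨a, hla, haK, ha⟩
    subst haK
    by_cases hpJ : p J = 0
    swap
    · exact step1 p hsupp ⟨J, by omega, by simp [hKdef, hJdef], hpJ⟩
    have hok : Ok J K := ⟨hJK, by simp [hKdef, hJdef]⟩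
    have hmem : el hok (1 : F) ∈ E F m k := el_mem hok _ (by omega) hlK.ge
    obtain ⟨e, he, h⟩ := step1 (act (el hok (1 : F)) p) (supp_act (E_le_fixK k hmem) hsupp)
      ⟨J, by omega, by simp [hKdef, hJdef], by rw [el_fst, hpJ, zero_add, one_mul]; exact ha⟩
    exact ⟨e * el hok (1 : F), Subgroup.mul_mem _ he hmem, by rwa [act_mul]⟩
  set q := act e₁ p with hq
  have hok2 : Ok J (bar K) := ⟨by simp [hKdef, hJdef], fun e => hJK (bar_inj e.symm)⟩
  set q' := act (el hok2 ((1 - q J) / q K)) q with hq'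
  have hJ1 : q' J = 1 := by
    rw [hq', el_fst, bar_bar, div_mul_cancel₀ _ h₁, add_sub_cancel]
  have hok3 : Ok K (bar J) := ⟨by simp [hKdef, hJdef], fun e => hJK (bar_inj e)⟩
  refine ⟨el hok3 (1 - q' K) * (el hok2 ((1 - q J) / q K) * e₁),
    Subgroup.mul_mem _ (el_mem hok3 _ hlK.ge (by rw [lev_bar]; omega))
      (Subgroup.mul_mem _ (el_mem hok2 _ (by omega) (by rw [lev_bar, hlK])) he₁), ?_⟩
  rw [act_mul, act_mul, ← hq, ← hq', el_fst, bar_bar, hJ1, mul_one, add_sub_cancel]

theorem step (k : ℕ) (hk : k + 1 < m) {g : OG F m} (hg : g ∈ fixK F m k) :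
    ∃ e ∈ E F m 0, e * g ∈ fixK F m (k + 1) := by
  set K : Fin m ⊕ Fin m := .inl ⟨k, by omega⟩ with hKdef
  have hlK : lev K = k := rfl
  have hsupp : ∀ i, lev i = k → ∀ j, lev j < k → (Pi.single i 1 : V) j = 0 :=
    fun i hi j hj => Pi.single_eq_of_ne (fun e => by subst e; omega) _
  have hne : act g (Pi.single K 1) ≠ 0 := fun e => by
    have := congrArg (act g⁻¹) e
    rw [← act_mul, inv_mul_cancel, act_one] at this
    simpa [act] using congrFun this K
  obtain ⟨e₁, he₁, h1⟩ := make_one k hk (act g (Pi.single K 1)) hne (supp_act hg (hsupp K hlK))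
  have hg1 : e₁ * g ∈ fixK F m k := Subgroup.mul_mem _ (E_le_fixK k he₁) hg
  obtain ⟨e₂, he₂, -, h2⟩ := to_basis k K hlK (act (e₁ * g) (Pi.single K 1))
    (by rwa [act_mul]) (by rw [Q_act, Q_single]) (supp_act hg1 (hsupp K hlK))
  set g2 := e₂ * (e₁ * g) with hg2def
  have hg2 : g2 ∈ fixK F m k := Subgroup.mul_mem _ (E_le_fixK k he₂) hg1
  have hK2 : act g2 (Pi.single K 1) = Pi.single K 1 := by rw [hg2def, act_mul, h2]
  obtain ⟨e₃, he₃, hfix, h3⟩ := to_basis k (bar K) (by rw [lev_bar, hlK])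
    (act g2 (Pi.single (bar K) 1)) (by rw [coord_of_fix hK2, Pi.single_eq_same])
    (by rw [Q_act, Q_single]) (supp_act hg2 (hsupp _ (by rw [lev_bar, hlK])))
  rw [bar_bar] at hfix
  refine ⟨e₃ * (e₂ * e₁),
    Subgroup.mul_mem _ (E_le k he₃) (Subgroup.mul_mem _ (E_le k he₂) (E_le k he₁)), fun i hi => ?_⟩
  rw [show e₃ * (e₂ * e₁) * g = e₃ * g2 by rw [hg2def]; group, act_mul]
  rcases Nat.lt_succ_iff_lt_or_eq.1 hi with h | h
  · rw [hg2 i h, E_le_fixK k he₃ i h]
  · rcases lev_eq (h.trans hlK.symm) with rfl | rfl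
    · rw [hK2, hfix]
    · rw [h3]

theorem reduce : ∀ k, k < m → ∀ g : OG F m, ∃ e ∈ E F m 0, e * g ∈ fixK F m k := by
  intro k
  induction k with
  | zero => exact fun _ g => ⟨1, Subgroup.one_mem _, fun i hi => absurd hi (by omega)⟩
  | succ k ih =>
    intro hk g
    obtain ⟨e, he, h⟩ := ih (by omega) g
    obtain ⟨e', he', h'⟩ := step k hk h
    exact ⟨e' * e, Subgroup.mul_mem _ he' he, by rwa [mul_assoc]⟩

/-! ### The torus and the swap of the last level -/

theorem diag_fac {d : Fin m ⊕ Fin m → F} (hd : ∀ i, d i * d (bar i) = 1) :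
    (diagonal d * diagonal fun i => d (bar i)) = 1 := by
  rw [diagonal_mul_diagonal]; simp [hd]

/-- A diagonal isometry. -/
def dg (d : Fin m ⊕ Fin m → F) (hd : ∀ i, d i * d (bar i) = 1) : OG F m :=
  ⟨⟨diagonal d, diagonal fun i => d (bar i), diag_fac hd, by
    rw [diagonal_mul_diagonal]
    simp [fun i => (mul_comm (d (bar i)) (d i)).trans (hd i)]⟩,
    mem_OG.2 fun x => Finset.sum_congr rfl fun i _ => by
      have := hd (.inl i)
      simp only [bar, Sum.swap_inl] at this
      simp only [mulVec_diagonal]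
      linear_combination (x (.inl i) * x (.inr i)) * this⟩

theorem dg_apply (d : Fin m ⊕ Fin m → F) (hd : ∀ i, d i * d (bar i) = 1) (x : V)
    (i : Fin m ⊕ Fin m) : act (dg d hd) x i = d i * x i := mulVec_diagonal d x i

theorem dg_conj {d : Fin m ⊕ Fin m → F} (hd : ∀ i, d i * d (bar i) = 1) {a b : Fin m ⊕ Fin m}
    (h : Ok a b) (t : F) : dg d hd * el h t = el h (t * d a * d b) * dg d hd := by
  refine ext_act fun x => funext fun i => ?_
  simp only [act_mul, dg_apply, el_apply]
  have ha := hd a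
  have hb := hd b
  by_cases h1 : i = a
  · subst h1
    rw [if_pos rfl, if_neg h.1, if_pos rfl, if_neg h.1]
    linear_combination (-(t * d i * x (bar b))) * hb
  by_cases h2 : i = b
  · subst h2
    rw [if_neg h1, if_pos rfl, if_neg h1, if_pos rfl]
    linear_combination (t * d i * x (bar a)) * ha
  simp [h1, h2]

/-- The values of the torus of the last level. -/
def dL (K : Fin m ⊕ Fin m) (c : Fˣ) (i : Fin m ⊕ Fin m) : F :=
  if i = K then c else if i = bar K then c⁻¹ else 1

theorem dL_spec (K : Fin m ⊕ Fin m) (c : Fˣ) (i : Fin m ⊕ Fin m) :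
    dL K c i * dL K c (bar i) = 1 := by
  by_cases h1 : i = K
  · subst h1; simp [dL, bar_ne i]
  by_cases h2 : i = bar K
  · subst h2; simp [dL, bar_ne K, bar_bar]
  have h3 : bar i ≠ K := fun e => h2 (by rw [← e, bar_bar])
  have h4 : bar i ≠ bar K := fun e => h1 (bar_inj e)
  simp [dL, h1, h2, h3, h4]

/-- The torus of one level. -/
def tl (K : Fin m ⊕ Fin m) (c : Fˣ) : OG F m := dg (dL K c) (dL_spec K c)

theorem tl_mul (K : Fin m ⊕ Fin m) (c c' : Fˣ) : tl K c * tl K c' = tl K (c * c') := by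
  refine ext_act fun x => funext fun i => ?_
  simp only [act_mul, tl, dg_apply, dL]
  split_ifs <;> simp [mul_assoc, mul_left_comm]

theorem root_torus {a b : Fin m ⊕ Fin m} (h : Ok a b) (h' : Ok (bar b) (bar a)) (t : Fˣ) :
    el h (t : F) * el h' (-(t : F)⁻¹) * el h (t : F) * (el h (-1) * el h' 1 * el h (-1)) =
      tl a t * tl b t := by
  have h1 : bar b ≠ a := fun e => h.2 (by rw [← e, bar_bar])
  have h2 : bar a ≠ bar b := fun e => h.1 (bar_inj e)
  refine ext_act fun x => funext fun i => ?_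
  simp only [act_mul, tl, dg_apply, dL, el_apply, bar_bar]
  by_cases e1 : i = a
  · subst e1
    simp [h.1, h.1.symm, h.2, h.2.symm, h1, h1.symm, h2, h2.symm, bar_ne, (bar_ne _).symm]
    field_simp
    ring
  by_cases e2 : i = b
  · subst e2
    simp [h.1, h.1.symm, h.2, h.2.symm, h1, h1.symm, h2, h2.symm, bar_ne, (bar_ne _).symm]
    field_simp
    ring
  by_cases e3 : i = bar a
  · subst e3
    simp [h.1, h.1.symm, h.2, h.2.symm, h1, h1.symm, h2, h2.symm, bar_ne, (bar_ne _).symm]
    field_simp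
    ring
  by_cases e4 : i = bar b
  · subst e4
    simp [h.1, h.1.symm, h.2, h.2.symm, h1, h1.symm, h2, h2.symm, bar_ne, (bar_ne _).symm]
    field_simp
    ring
  simp [e1, e2, e3, e4]

theorem pair_torus_mem {a b : Fin m ⊕ Fin m} (h : Ok a b) (t : Fˣ) :
    tl a t * tl b t ∈ E F m 0 := by
  have h' : Ok (bar b) (bar a) :=
    ⟨fun e => h.1 (bar_inj e).symm, fun e => h.2 (by rw [← bar_bar b, ← e])⟩
  rw [← root_torus h h' t]
  exact Subgroup.mul_mem _
    (Subgroup.mul_mem _ (Subgroup.mul_mem _ (el_mem h _ (by omega) (by omega))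
      (el_mem h' _ (by omega) (by omega))) (el_mem h _ (by omega) (by omega)))
    (Subgroup.mul_mem _ (Subgroup.mul_mem _ (el_mem h _ (by omega) (by omega))
      (el_mem h' _ (by omega) (by omega))) (el_mem h _ (by omega) (by omega)))

theorem tl_bar (K : Fin m ⊕ Fin m) (c : Fˣ) : tl (bar K) c = tl K c⁻¹ := by
  refine ext_act fun x => funext fun i => ?_
  simp only [tl, dg_apply, dL, bar_bar]
  by_cases h1 : i = K
  · subst h1; simp [(bar_ne i).symm]
  · by_cases h2 : i = bar K <;> simp [h1, h2, bar_ne]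

theorem tl_sq_mem {K J : Fin m ⊕ Fin m} (h : lev K ≠ lev J) (c : Fˣ) :
    tl K (c * c) ∈ E F m 0 := by
  have h1 : Ok K J := ⟨fun e => h (by rw [e]), fun e => h (by rw [e, lev_bar])⟩
  have h2 : Ok K (bar J) :=
    ⟨fun e => h (by rw [e, lev_bar]), fun e => h (by rw [bar_inj e])⟩
  have hc : Commute (tl J c) (tl K c : OG F m) := by
    refine ext_act fun x => funext fun i => ?_
    simp only [act_mul, tl, dg_apply]
    ring
  have e : tl K c * tl J c * (tl K c * tl (bar J) c) = (tl K (c * c) : OG F m) := by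
    rw [tl_bar, mul_assoc, ← mul_assoc (tl J c), hc.eq, mul_assoc (tl K c) (tl J c), tl_mul,
      mul_inv_cancel]
    have h1 : (tl J (1 : Fˣ) : OG F m) = 1 := by
      refine ext_act fun x => funext fun i => ?_
      simp [tl, dg_apply, dL, act_one]
    rw [h1, mul_one, tl_mul]
  rw [← e]
  exact Subgroup.mul_mem _ (pair_torus_mem h1 c) (pair_torus_mem h2 c)

/-- The swap of the two indices of one level. -/
def swp (K : Fin m ⊕ Fin m) : Equiv.Perm (Fin m ⊕ Fin m) := Equiv.swap K (bar K)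

theorem swp_bar (K i : Fin m ⊕ Fin m) : swp K (bar i) = bar (swp K i) := by
  by_cases h1 : i = K
  · subst h1; simp [swp, bar_bar]
  by_cases h2 : i = bar K
  · subst h2; simp [swp, bar_bar]
  rw [swp, Equiv.swap_apply_of_ne_of_ne h1 h2, Equiv.swap_apply_of_ne_of_ne
    (fun e => h2 (by rw [← e, bar_bar])) (fun e => h1 (bar_inj e))]

/-- The matrix of the swap. -/
def swMat (K : Fin m ⊕ Fin m) : Matrix (Fin m ⊕ Fin m) (Fin m ⊕ Fin m) F :=
  (1 : Matrix (Fin m ⊕ Fin m) (Fin m ⊕ Fin m) F).submatrix (swp K) id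

theorem swMat_mulVec (K : Fin m ⊕ Fin m) (x : V) (i : Fin m ⊕ Fin m) :
    (swMat K *ᵥ x : V) i = x (swp K i) := by
  show ((1 : Matrix (Fin m ⊕ Fin m) (Fin m ⊕ Fin m) F) *ᵥ x) (swp K i) = _
  rw [one_mulVec]

theorem swMat_sq (K : Fin m ⊕ Fin m) : swMat (F := F) K * swMat K = 1 := by
  refine Matrix.toLin'.injective (LinearMap.ext fun x => funext fun i => ?_)
  simp [← mulVec_mulVec, swMat_mulVec, swp]

theorem swp_lev (K i : Fin m ⊕ Fin m) : lev (swp K i) = lev i := by
  rw [swp, Equiv.swap_apply_def]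
  split_ifs with h h
  · rw [h, lev_bar]
  · rw [h, lev_bar]
  · rfl

/-- The swap as an isometry. -/
def sw (K : Fin m ⊕ Fin m) : OG F m :=
  ⟨⟨swMat K, swMat K, swMat_sq K, swMat_sq K⟩, mem_OG.2 fun x => by
    refine Finset.sum_congr rfl fun i _ => ?_
    show (swMat K *ᵥ x) _ * (swMat K *ᵥ x) _ = _
    rw [swMat_mulVec, swMat_mulVec, show (Sum.inr i : Fin m ⊕ Fin m) = bar (.inl i) from rfl,
      swp_bar]
    rcases lev_eq (swp_lev K (.inl i)) with e | e <;> rw [e]
    rw [bar_bar, mul_comm]⟩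

theorem sw_apply (K : Fin m ⊕ Fin m) (x : V) (i : Fin m ⊕ Fin m) :
    act (sw K) x i = x (swp K i) := swMat_mulVec K x i

theorem sw_conj (K : Fin m ⊕ Fin m) {a b : Fin m ⊕ Fin m} (h : Ok a b)
    (h' : Ok (swp K a) (swp K b)) (t : F) : sw K * el h t = el h' t * sw K := by
  refine ext_act fun x => funext fun i => ?_
  have hs : ∀ j, swp K (swp K j) = j := fun j => Equiv.swap_apply_self ..
  have key : ∀ j, swp K i = j ↔ i = swp K j := fun j =>
    ⟨fun e => by rw [← e, hs], fun e => by rw [e, hs]⟩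
  simp only [act_mul, sw_apply, el_apply, key, ← swp_bar, hs]

theorem sw_tl (K : Fin m ⊕ Fin m) (c : Fˣ) : sw K * tl K c = (tl K c⁻¹ * sw K : OG F m) := by
  refine ext_act fun x => funext fun i => ?_
  simp only [act_mul, sw_apply, tl, dg_apply, dL]
  by_cases h1 : i = K
  · subst h1; simp [swp, bar_ne i]
  by_cases h2 : i = bar K
  · subst h2; simp [swp, bar_ne K]
  simp [swp, Equiv.swap_apply_of_ne_of_ne h1 h2, h1, h2]

/-- The last index. -/
abbrev lastI (hm : 3 ≤ m) : Fin m ⊕ Fin m := .inl ⟨m - 1, by omega⟩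

theorem decomp (hm : 3 ≤ m) (g : OG F m) :
    ∃ e ∈ E F m 0, ∃ c : Fˣ, g = e * tl (lastI hm) c ∨ g = e * (tl (lastI hm) c * sw (lastI hm)) := by
  obtain ⟨e, he, h⟩ := reduce (m - 1) (by omega) g
  set L := lastI hm with hL
  have hlev : ∀ i, ¬ lev i < m - 1 → i = L ∨ i = bar L := fun i hi => by
    refine lev_eq ?_
    have : lev i < m := by cases i <;> simp [lev]
    show lev i = m - 1
    omega
  have hform : ∀ f ∈ fixK F m (m - 1), ∀ J, lev J = m - 1 → act f (Pi.single J 1) =
      Pi.single L (act f (Pi.single J 1) L) + Pi.single (bar L) (act f (Pi.single J 1) (bar L)) := by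
    intro f hf J hJ
    funext i
    by_cases hi : lev i < m - 1
    · have h1 : i ≠ L := fun e => by subst e; exact absurd hi (lt_irrefl _)
      have h2 : i ≠ bar L := fun e => by subst e; rw [lev_bar] at hi; exact absurd hi (lt_irrefl _)
      rw [supp_act hf (fun j hj => Pi.single_eq_of_ne (fun e => by subst e; omega) _) i hi]
      simp [h1, h2]
    · rcases hlev i hi with rfl | rfl <;> simp [bar_ne, (bar_ne _).symm]
  have main : ∀ f ∈ fixK F m (m - 1), act f (Pi.single L 1) L ≠ 0 →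
      ∃ c : Fˣ, f = tl L c := by
    intro f hf hne
    set p := act f (Pi.single L 1) with hp
    have e1 := hform f hf L rfl
    have e2 := hform f hf (bar L) (by rw [lev_bar]; rfl)
    set q := act f (Pi.single (bar L) 1) with hq
    have hpb : p (bar L) = 0 := by
      have := Q_act f (Pi.single L 1)
      rw [Q_single, e1, Q_two, mul_eq_zero] at this
      exact this.resolve_right hne
    rw [← hp, hpb, Pi.single_zero, add_zero] at e1
    have h1 := polar_act f (Pi.single L 1) (bar L)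
    rw [← hp, ← hq, bar_bar, Q_single, Pi.single_eq_same, zero_add, e1, e2, ← add_assoc,
      ← Pi.single_add, Q_two] at h1
    have h0 := Q_act f (Pi.single (bar L) 1)
    rw [Q_single, ← hq, e2, Q_two] at h0
    have hqL : q L = 0 := by
      rw [mul_add, h0, add_zero] at h1
      rcases mul_eq_zero.1 h0 with h | h
      · rw [h, zero_mul] at h1; exact absurd h1 zero_ne_one
      · exact h
    rw [hqL, add_zero] at h1
    refine ⟨Units.mk0 _ hne, ext_single fun i => ?_⟩
    have ht : ∀ j, act (tl L (Units.mk0 _ hne)) (Pi.single j 1) =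
        Pi.single j (dL L (Units.mk0 _ hne) j) := fun j => by
      funext l
      rw [tl, dg_apply]
      by_cases e : l = j
      · subst e; simp
      · simp [e]
    rw [ht]
    by_cases hi : lev i < m - 1
    · have h1 : i ≠ L := fun e => by subst e; exact absurd hi (lt_irrefl _)
      have h2 : i ≠ bar L := fun e => by subst e; rw [lev_bar] at hi; exact absurd hi (lt_irrefl _)
      rw [hf i hi]
      simp [dL, h1, h2]
    · rcases hlev i hi with rfl | rfl
      · rw [← hp]; conv_lhs => rw [e1]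
        simp [dL]
      · rw [← hq, e2, hqL, Pi.single_zero, zero_add, eq_inv_of_mul_eq_one_left h1]
        simp [dL, bar_ne]
  refine ⟨e⁻¹, Subgroup.inv_mem _ he, ?_⟩
  by_cases hne : act (e * g) (Pi.single L 1) L = 0
  · have hs : sw L ∈ fixK F m (m - 1) := fun i hi => funext fun j => by
      rw [sw_apply]
      have hiL : i ≠ L := fun e => by subst e; exact absurd hi (lt_irrefl _)
      have hiL' : i ≠ bar L := fun e => by
        subst e; rw [lev_bar] at hi; exact absurd hi (lt_irrefl _)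
      have : swp L i = i := Equiv.swap_apply_of_ne_of_ne hiL hiL'
      rw [Pi.single_apply, Pi.single_apply]
      exact if_congr ⟨fun e => (swp L).injective (e.trans this.symm), fun e => e ▸ this⟩ rfl rfl
    have hsq : sw L * sw L = (1 : OG F m) := ext_act fun x => funext fun i => by
      simp [act_mul, act_one, sw_apply, swp]
    have hbL : act (sw L : OG F m) (Pi.single L 1) = Pi.single (bar L) 1 := funext fun j => by
      rw [sw_apply, Pi.single_apply, Pi.single_apply]
      exact if_congr ⟨fun e => by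
        have := congrArg (swp L) e
        simpa [swp] using this, fun e => by subst e; simp [swp]⟩ rfl rfl
    have hb : act (e * g * sw L) (Pi.single L 1) L ≠ 0 := fun h0 => by
      rw [act_mul, hbL] at h0
      have h1 := polar_act (e * g) (Pi.single L 1) (bar L)
      rw [hform _ h L rfl, hform _ h (bar L) (by rw [lev_bar]; rfl), hne, h0] at h1
      simp [← Pi.single_add, Q_single] at h1
    obtain ⟨c, hc⟩ := main _ (Subgroup.mul_mem _ h hs) hb
    refine ⟨c, Or.inr ?_⟩
    rw [← hc, mul_assoc (e * g), hsq, mul_one, inv_mul_cancel_left]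
  · obtain ⟨c, hc⟩ := main _ h hne
    exact ⟨c, Or.inl (by rw [← hc, inv_mul_cancel_left])⟩

theorem normal_E (hm : 3 ≤ m) : (E F m 0).Normal := by
  set L := lastI hm with hL
  have key : ∀ u : OG F m, (∀ (a b : Fin m ⊕ Fin m) (h : Ok a b) (t : F),
      ∃ (a' b' : Fin m ⊕ Fin m) (h' : Ok a' b') (t' : F), u * el h t = el h' t' * u) →
      ∀ x ∈ E F m 0, u * x * u⁻¹ ∈ E F m 0 := by
    intro u hu x hx
    induction hx using Subgroup.closure_induction with
    | mem y hy =>
      obtain ⟨a, b, h, t, -, -, rfl⟩ := hy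
      obtain ⟨a', b', h', t', e⟩ := hu a b h t
      rw [e, mul_inv_cancel_right]
      exact el_mem h' t' (by omega) (by omega)
    | one => simp
    | mul y z _ _ hy hz =>
      rw [show u * (y * z) * u⁻¹ = (u * y * u⁻¹) * (u * z * u⁻¹) by group]
      exact Subgroup.mul_mem _ hy hz
    | inv y _ hy =>
      rw [show u * y⁻¹ * u⁻¹ = (u * y * u⁻¹)⁻¹ by group]
      exact Subgroup.inv_mem _ hy
  have ht : ∀ c, ∀ x ∈ E F m 0, tl L c * x * (tl L c)⁻¹ ∈ E F m 0 :=
    fun c => key _ fun a b h t => ⟨a, b, h, _, dg_conj _ h t⟩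
  have hs : ∀ x ∈ E F m 0, sw L * x * (sw L)⁻¹ ∈ E F m 0 := key _ fun a b h t =>
    have h' : Ok (swp L a) (swp L b) := ⟨fun e => h.1 ((swp L).injective e),
      fun e => h.2 ((swp L).injective (e.trans (swp_bar L a).symm))⟩
    ⟨_, _, h', t, sw_conj L h h' t⟩
  refine ⟨fun x hx g => ?_⟩
  obtain ⟨e, he, c, rfl | rfl⟩ := decomp hm g
  · rw [show e * tl L c * x * (e * tl L c)⁻¹ = e * (tl L c * x * (tl L c)⁻¹) * e⁻¹ by group]
    exact Subgroup.mul_mem _ (Subgroup.mul_mem _ he (ht c x hx)) (Subgroup.inv_mem _ he)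
  · rw [show e * (tl L c * sw L) * x * (e * (tl L c * sw L))⁻¹ =
      e * (tl L c * (sw L * x * (sw L)⁻¹) * (tl L c)⁻¹) * e⁻¹ by group]
    exact Subgroup.mul_mem _ (Subgroup.mul_mem _ he (ht c _ (hs x hx))) (Subgroup.inv_mem _ he)

theorem commutator_le (hm : 3 ≤ m) : commutator (OG F m) ≤ E F m 0 := by
  haveI := normal_E (F := F) hm
  set L := lastI hm with hL
  set q := QuotientGroup.mk' (E F m 0) with hq
  have hz : ∀ e ∈ E F m 0, q e = 1 := fun e he => (QuotientGroup.eq_one_iff e).2 he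
  have hA : ∀ c : Fˣ, q (tl L c⁻¹) = q (tl L c) := fun c => by
    have h2 : q (tl L (c * c)) = 1 :=
      hz _ (tl_sq_mem (J := .inl ⟨0, by omega⟩) (by show m - 1 ≠ 0; omega) c)
    calc q (tl L c⁻¹) = q (tl L c⁻¹) * q (tl L (c * c)) := by rw [h2, mul_one]
      _ = q (tl L c) := by rw [← map_mul, tl_mul, inv_mul_cancel_left]
  have hS : ∀ c : Fˣ, Commute (q (tl L c)) (q (sw L)) := fun c => by
    show _ * _ = _ * _
    rw [← map_mul q (sw L), sw_tl, map_mul, hA]
  have hT : ∀ c d : Fˣ, Commute (q (tl L c)) (q (tl L d)) := fun c d => by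
    show _ * _ = _ * _
    rw [← map_mul, ← map_mul, tl_mul, tl_mul, mul_comm c]
  have form : ∀ g, ∃ c, q g = q (tl L c) ∨ q g = q (tl L c) * q (sw L) := fun g => by
    obtain ⟨e, he, c, rfl | rfl⟩ := decomp hm g
    · exact ⟨c, Or.inl (by rw [map_mul, hz e he, one_mul])⟩
    · exact ⟨c, Or.inr (by rw [map_mul, map_mul, hz e he, one_mul])⟩
  rw [commutator_def, Subgroup.commutator_le]
  intro g _ g' _
  rw [← QuotientGroup.eq_one_iff]
  show q ⁅g, g'⁆ = 1
  rw [map_commutatorElement, commutatorElement_eq_one_iff_commute]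
  obtain ⟨c, h | h⟩ := form g <;> obtain ⟨d, h' | h'⟩ := form g' <;> rw [h, h']
  · exact hT c d
  · exact (hT c d).mul_right (hS c)
  · exact (hT c d).mul_left (hS d).symm
  · exact ((hT c d).mul_right (hS c)).mul_left ((hS d).symm.mul_right (Commute.refl _))

theorem el_mem_commutator (hm : 3 ≤ m) {a b : Fin m ⊕ Fin m} (h : Ok a b) (t : F) :
    el h t ∈ commutator (OG F m) := by
  obtain ⟨j, hj1, hj2⟩ : ∃ j < 3, j ≠ lev a ∧ j ≠ lev b := by
    by_cases h0 : 0 = lev a ∨ 0 = lev b
    · by_cases h1 : 1 = lev a ∨ 1 = lev b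
      · exact ⟨2, by omega, by omega, by omega⟩
      · exact ⟨1, by omega, by omega, by omega⟩
    · exact ⟨0, by omega, by omega, by omega⟩
  obtain ⟨c, hca, hcb⟩ : ∃ c : Fin m ⊕ Fin m, lev c ≠ lev a ∧ lev c ≠ lev b :=
    ⟨.inl ⟨j, by omega⟩, hj2.1, hj2.2⟩
  have n1 : ∀ d, lev c ≠ lev d → c ≠ d ∧ bar c ≠ d ∧ d ≠ c ∧ d ≠ bar c := fun d hd =>
    ⟨fun e => hd (by rw [e]), fun e => hd (by rw [← e, lev_bar]), fun e => hd (by rw [e]),
      fun e => hd (by rw [e, lev_bar])⟩
  obtain ⟨a1, a2, a3, a4⟩ := n1 a hca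
  obtain ⟨b1, b2, b3, b4⟩ := n1 b hcb
  obtain ⟨a5, a6, a7, a8⟩ := n1 (bar a) (by rwa [lev_bar])
  obtain ⟨b5, b6, b7, b8⟩ := n1 (bar b) (by rwa [lev_bar])
  have hac : Ok a c := ⟨a3, a5⟩
  have hcb' : Ok (bar c) b := ⟨b2, by rw [bar_bar]; exact b3⟩
  have hab : bar b ≠ a := fun e => h.2 (by rw [← e, bar_bar])
  have hba : bar a ≠ b := h.2.symm
  have e : el hac t * el hcb' (1 : F) = el h t * (el hcb' 1 * el hac t) := by
    refine ext_act fun x => funext fun i => ?_
    simp only [act_mul, el_apply, bar_bar]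
    by_cases i1 : i = a
    · subst i1; simp [*, bar_ne, (bar_ne _).symm, h.1, h.2.symm]; ring
    by_cases i2 : i = b
    · subst i2; simp [*, bar_ne, (bar_ne _).symm, h.1.symm, hab.symm]; ring
    by_cases i3 : i = c
    · subst i3; simp [*, bar_ne, (bar_ne _).symm]
    by_cases i4 : i = bar c
    · subst i4; simp [*, bar_ne, (bar_ne _).symm]
    simp [i1, i2, i3, i4]
  rw [show el h t = ⁅el hac t, el hcb' (1 : F)⁆ by
    rw [commutatorElement_def, e]; group]
  exact Subgroup.commutator_mem_commutator (Subgroup.mem_top _) (Subgroup.mem_top _)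

/-- The commutator subgroup of the isometry group is generated by the root elements. -/
theorem commutator_eq (hm : 3 ≤ m) : commutator (OG F m) = E F m 0 := by
  refine le_antisymm (commutator_le hm) ((Subgroup.closure_le _).2 ?_)
  rintro _ ⟨a, b, h, t, -, -, rfl⟩
  exact el_mem_commutator hm h t

end Cfsg.Agent.Chev.Ortho
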